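import Cfsg.Agent.H18.Nse.Basic

/-!
The sets of element-order counts of the small alternating groups.
-/

set_option autoImplicit false
set_option linter.all false
set_option maxRecDepth 100000

namespace H18.Nse

open H26

abbrev nseSet (G : Type*) [Group G] : Set ℕ :=
  (fun m : ℕ => Nat.card {g : G // orderOf g = m}) '' Set.range (orderOf : G → ℕ)

theorem mem_nseSet_iff {G : Type*} [Group G] [Finite G] {v : ℕ} :
    v ∈ nseSet G ↔ ∃ m, ocnt G m ≠ 0 ∧ ocnt G m = v := by
  constructor
  · rintro ⟨m, ⟨g, hg⟩, rfl⟩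
    exact ⟨m, (ocnt_pos_iff.2 ⟨g, hg⟩).ne', rfl⟩
  · rintro ⟨m, hm, rfl⟩
    obtain ⟨g, hg⟩ := ocnt_pos_iff.1 (Nat.pos_of_ne_zero hm)
    exact ⟨m, ⟨g, hg⟩, rfl⟩

theorem sum_of_filter {G : Type*} [Group G] [Fintype G] [DecidableEq G] {N c : ℕ} (hN : N ≠ 0)
    (h : (Finset.univ.filter fun g : G => g ^ N = 1).card = c) :
    ∑ d ∈ N.divisors, ocnt G d = c := by
  rw [← h, ← card_pow_eq_one N hN, Nat.card_eq_fintype_card, Fintype.card_subtype]

theorem a4_pow : ∀ g : alternatingGroup (Fin 4), g ^ 2 = 1 ∨ g ^ 3 = 1 := by decide +kernel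
theorem a5_pow : ∀ g : alternatingGroup (Fin 5), g ^ 2 = 1 ∨ g ^ 3 = 1 ∨ g ^ 5 = 1 := by
  decide +kernel
theorem a6_pow : ∀ g : alternatingGroup (Fin 6), g ^ 4 = 1 ∨ g ^ 3 = 1 ∨ g ^ 5 = 1 := by
  decide +kernel

theorem a4_counts :
    (Finset.univ.filter fun g : alternatingGroup (Fin 4) => g ^ 2 = 1).card = 4 ∧
    (Finset.univ.filter fun g : alternatingGroup (Fin 4) => g ^ 3 = 1).card = 9 := by
  decide +kernel
theorem a5_counts :
    (Finset.univ.filter fun g : alternatingGroup (Fin 5) => g ^ 2 = 1).card = 16 ∧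
    (Finset.univ.filter fun g : alternatingGroup (Fin 5) => g ^ 3 = 1).card = 21 ∧
    (Finset.univ.filter fun g : alternatingGroup (Fin 5) => g ^ 5 = 1).card = 25 := by
  decide +kernel
theorem a6_counts :
    (Finset.univ.filter fun g : alternatingGroup (Fin 6) => g ^ 2 = 1).card = 46 ∧
    (Finset.univ.filter fun g : alternatingGroup (Fin 6) => g ^ 3 = 1).card = 81 ∧
    (Finset.univ.filter fun g : alternatingGroup (Fin 6) => g ^ 4 = 1).card = 136 ∧
    (Finset.univ.filter fun g : alternatingGroup (Fin 6) => g ^ 5 = 1).card = 145 := by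
  decide +kernel

theorem order_mem {G : Type*} [Group G] {g : G} {N : ℕ} (hN : N ≠ 0) (h : g ^ N = 1) :
    orderOf g ∈ N.divisors :=
  Nat.mem_divisors.2 ⟨orderOf_dvd_of_pow_eq_one h, hN⟩

theorem d2 : (2 : ℕ).divisors = {1, 2} := by decide
theorem d3 : (3 : ℕ).divisors = {1, 3} := by decide
theorem d4 : (4 : ℕ).divisors = {1, 2, 4} := by decide
theorem d5 : (5 : ℕ).divisors = {1, 5} := by decide

theorem mem_a4 {v : ℕ} : v ∈ nseSet (alternatingGroup (Fin 4)) ↔ v = 1 ∨ v = 3 ∨ v = 8 := by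
  have h1 := ocnt_one (G := alternatingGroup (Fin 4))
  have h2 := sum_of_filter (by norm_num) a4_counts.1
  have h3 := sum_of_filter (by norm_num) a4_counts.2
  simp [d2, ocnt_one] at h2
  simp [d3, ocnt_one] at h3
  rw [mem_nseSet_iff]
  constructor
  · rintro ⟨m, hm, rfl⟩
    obtain ⟨g, rfl⟩ := ocnt_pos_iff.1 (Nat.pos_of_ne_zero hm)
    rcases a4_pow g with h | h <;> have := order_mem (by norm_num) h <;>
      simp [d2, d3] at this <;> rcases this with h' | h' <;> simp only [h', orderOf_one] <;> omega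
  · rintro (rfl | rfl | rfl)
    · exact ⟨1, by omega, h1⟩
    · exact ⟨2, by omega, by omega⟩
    · exact ⟨3, by omega, by omega⟩

theorem mem_a5 {v : ℕ} :
    v ∈ nseSet (alternatingGroup (Fin 5)) ↔ v = 1 ∨ v = 15 ∨ v = 20 ∨ v = 24 := by
  have h1 := ocnt_one (G := alternatingGroup (Fin 5))
  have h2 := sum_of_filter (by norm_num) a5_counts.1
  have h3 := sum_of_filter (by norm_num) a5_counts.2.1
  have h5 := sum_of_filter (by norm_num) a5_counts.2.2
  simp [d2, ocnt_one] at h2
  simp [d3, ocnt_one] at h3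
  simp [d5, ocnt_one] at h5
  rw [mem_nseSet_iff]
  constructor
  · rintro ⟨m, hm, rfl⟩
    obtain ⟨g, rfl⟩ := ocnt_pos_iff.1 (Nat.pos_of_ne_zero hm)
    rcases a5_pow g with h | h | h <;> have := order_mem (by norm_num) h <;>
      simp [d2, d3, d5] at this <;> rcases this with h' | h' <;> simp only [h', orderOf_one] <;> omega
  · rintro (rfl | rfl | rfl | rfl)
    · exact ⟨1, by omega, h1⟩
    · exact ⟨2, by omega, by omega⟩
    · exact ⟨3, by omega, by omega⟩
    · exact ⟨5, by omega, by omega⟩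

theorem mem_a6 {v : ℕ} :
    v ∈ nseSet (alternatingGroup (Fin 6)) ↔ v = 1 ∨ v = 45 ∨ v = 80 ∨ v = 90 ∨ v = 144 := by
  have h1 := ocnt_one (G := alternatingGroup (Fin 6))
  have h2 := sum_of_filter (by norm_num) a6_counts.1
  have h3 := sum_of_filter (by norm_num) a6_counts.2.1
  have h4 := sum_of_filter (by norm_num) a6_counts.2.2.1
  have h5 := sum_of_filter (by norm_num) a6_counts.2.2.2
  simp [d2, ocnt_one] at h2
  simp [d3, ocnt_one] at h3
  simp [d4, ocnt_one] at h4
  simp [d5, ocnt_one] at h5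
  rw [mem_nseSet_iff]
  constructor
  · rintro ⟨m, hm, rfl⟩
    obtain ⟨g, rfl⟩ := ocnt_pos_iff.1 (Nat.pos_of_ne_zero hm)
    rcases a6_pow g with h | h | h
    · have := order_mem (by norm_num) h
      simp [d4] at this
      rcases this with h' | h' | h' <;> simp only [h', orderOf_one] <;> omega
    · have := order_mem (by norm_num) h
      simp [d3] at this
      rcases this with h' | h' <;> simp only [h', orderOf_one] <;> omega
    · have := order_mem (by norm_num) h
      simp [d5] at this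
      rcases this with h' | h' <;> simp only [h', orderOf_one] <;> omega
  · rintro (rfl | rfl | rfl | rfl | rfl)
    · exact ⟨1, by omega, h1⟩
    · exact ⟨2, by omega, by omega⟩
    · exact ⟨3, by omega, by omega⟩
    · exact ⟨4, by omega, by omega⟩
    · exact ⟨5, by omega, by omega⟩

end H18.Nse
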