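import Mathlib
import Cfsg.Agent.H26.OrderCount
import Cfsg.Agent.H28.CountOrder

/-!
Counting tools for element orders.
-/

set_option autoImplicit false
set_option linter.all false

namespace H18.Nse

open H26 Subgroup

variable {G : Type*} [Group G] [Finite G]

theorem totient_dvd_ocnt (m : ℕ) : m.totient ∣ ocnt G m := by
  refine H28.dvd_card_of_gen_closed {x : G | orderOf x = m} _ (fun x hx y h => ?_) fun x hx => ?_
  · have := congrArg (fun H : Subgroup G => Nat.card H) h
    simp only [Nat.card_zpowers] at this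
    exact this.trans hx
  · rw [show orderOf x = m from hx]

theorem ocnt_eq_zero {m : ℕ} (h : ∀ g : G, orderOf g ≠ m) : ocnt G m = 0 := by
  by_contra hne
  obtain ⟨g, hg⟩ := ocnt_pos_iff.1 (Nat.pos_of_ne_zero hne)
  exact h g hg

theorem ocnt_ne_zero_of_dvd {d m : ℕ} (hdm : d ∣ m) (h : ocnt G m ≠ 0) : ocnt G d ≠ 0 := by
  obtain ⟨g, hg⟩ := ocnt_pos_iff.1 (Nat.pos_of_ne_zero h)
  have hm : m ≠ 0 := hg ▸ (orderOf_pos g).ne'
  obtain ⟨c, rfl⟩ := hdm
  refine (ocnt_pos_iff.2 ⟨g ^ c, ?_⟩).ne'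
  rw [orderOf_pow' g (right_ne_zero_of_mul hm), hg, Nat.gcd_mul_left_left,
    Nat.mul_div_cancel _ (Nat.pos_of_ne_zero (right_ne_zero_of_mul hm))]

theorem dvd_card_of_ocnt {m : ℕ} (h : ocnt G m ≠ 0) : m ∣ Nat.card G := by
  obtain ⟨g, hg⟩ := ocnt_pos_iff.1 (Nat.pos_of_ne_zero h)
  exact hg ▸ orderOf_dvd_natCard g

theorem ocnt_prime_ne_zero {p : ℕ} (hp : p.Prime) (h : p ∣ Nat.card G) : ocnt G p ≠ 0 := by
  haveI := Fact.mk hp
  exact (ocnt_pos_iff.2 (exists_prime_orderOf_dvd_card' p h)).ne'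

/-- Frobenius, in the form used for case analyses. -/
theorem frob {m : ℕ} (h : ocnt G m ≠ 0) : m ∣ ∑ d ∈ m.divisors, ocnt G d := by
  obtain ⟨g, hg⟩ := ocnt_pos_iff.1 (Nat.pos_of_ne_zero h)
  exact dvd_sum_ocnt (hg ▸ (orderOf_pos g).ne') dvd_rfl (dvd_card_of_ocnt h)

theorem sylow_dvd {p : ℕ} (hp : p.Prime) (k : ℕ) (hk : ∀ j, k < j → ocnt G (p ^ j) = 0) :
    p ^ (Nat.card G).factorization p ∣ ∑ j ∈ Finset.range (k + 1), ocnt G (p ^ j) := by
  set a := (Nat.card G).factorization p
  have h := dvd_sum_ocnt (G := G) (N := p ^ (a + k)) (r := p ^ a) (pow_ne_zero _ hp.ne_zero)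
    (Nat.pow_dvd_pow p (Nat.le_add_right a k)) (Nat.ordProj_dvd _ _)
  rw [Nat.divisors_prime_pow hp, Finset.sum_map] at h
  simp only [Function.Embedding.coeFn_mk] at h
  convert h using 1
  refine Finset.sum_subset (fun x hx => ?_) fun x _ hx => ?_
  · rw [Finset.mem_range] at hx ⊢
    omega
  · rw [Finset.mem_range] at hx
    exact hk x (by omega)

theorem le_factorization {p : ℕ} (hp : p.Prime) {j : ℕ} (h : ocnt G (p ^ j) ≠ 0) :
    j ≤ (Nat.card G).factorization p :=
  (hp.pow_dvd_iff_le_factorization Nat.card_pos.ne').1 (dvd_card_of_ocnt h)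

/-- Every order divides `E` when the prime power orders do. -/
theorem orderOf_dvd_of_prime_pow {E : ℕ} (hE : ∀ p k : ℕ, p.Prime → ocnt G (p ^ k) ≠ 0 → p ^ k ∣ E)
    (g : G) : orderOf g ∣ E := by
  rw [Nat.dvd_iff_prime_pow_dvd_dvd]
  intro p k hp hk
  exact hE p k hp (ocnt_ne_zero_of_dvd hk (ocnt_pos_iff.2 ⟨g, rfl⟩).ne')

theorem card_eq_sum {E : ℕ} (hE : E ≠ 0) (h : ∀ g : G, orderOf g ∣ E) :
    Nat.card G = ∑ d ∈ E.divisors, ocnt G d := by
  rw [← card_pow_eq_one E hE]
  exact (Nat.card_congr (Equiv.subtypeUnivEquiv fun g => orderOf_dvd_iff_pow_eq_one.1 (h g))).symm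

/-- Divisibility of the order from the Sylow bounds. -/
theorem card_dvd {B : ℕ} (h : ∀ p k : ℕ, p.Prime → k ≠ 0 → p ^ k ∣ Nat.card G → p ^ k ∣ B) :
    Nat.card G ∣ B := by
  rw [Nat.dvd_iff_prime_pow_dvd_dvd]
  intro p k hp hk
  rcases Nat.eq_zero_or_pos k with rfl | hk0
  · simp
  · exact h p k hp hk0.ne' hk

theorem card_gen_fibre {p : ℕ} [Fact p.Prime] (hc : ∃ x : G, orderOf x = p ^ (Nat.card G).factorization p)
    (P : Sylow p G) : IsCyclic (P : Subgroup G) := by
  obtain ⟨x, hx⟩ := hc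
  let Q : Sylow p G := Sylow.ofCard (zpowers x) (by rw [Nat.card_zpowers, hx])
  haveI : IsCyclic ((Q : Sylow p G) : Subgroup G) :=
    inferInstanceAs (IsCyclic (zpowers x))
  exact isCyclic_of_surjective (Sylow.equiv Q P).toMonoidHom (Sylow.equiv Q P).surjective

/-- Elements generating the Sylow subgroups, when these are cyclic. -/
theorem ocnt_sylow {p : ℕ} [Fact p.Prime] (hc : ∃ x : G, orderOf x = p ^ (Nat.card G).factorization p) :
    ocnt G (p ^ (Nat.card G).factorization p) =
      Nat.card (Sylow p G) * (p ^ (Nat.card G).factorization p).totient := by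
  classical
  set q := p ^ (Nat.card G).factorization p with hq
  haveI : Fintype (Sylow p G) := Fintype.ofFinite _
  have e : {x : G // orderOf x = q} ≃ Σ P : Sylow p G, {y : G // zpowers y = (P : Subgroup G)} :=
    { toFun := fun x => ⟨Sylow.ofCard (zpowers x.1) (by rw [Nat.card_zpowers, x.2]), x.1, rfl⟩
      invFun := fun y => ⟨y.2.1, by rw [← Nat.card_zpowers, y.2.2, Sylow.card_eq_multiplicity]⟩
      left_inv := fun x => rfl
      right_inv := fun y => by
        obtain ⟨P, y, hy⟩ := y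
        have hP : Sylow.ofCard (zpowers y) (by rw [hy, Sylow.card_eq_multiplicity]) = P :=
          Sylow.ext (by rw [Sylow.coe_ofCard]; exact hy)
        exact Sigma.subtype_ext hP rfl }
  rw [ocnt, Nat.card_congr e, Nat.card_sigma, Finset.sum_congr rfl (fun P _ => ?_), Finset.sum_const,
    smul_eq_mul, Nat.card_eq_fintype_card, Finset.card_univ]
  rw [H28.card_gen_eq_totient _ (card_gen_fibre hc P), Sylow.card_eq_multiplicity]

/-- With cyclic Sylow subgroups there are few elements of order `p`. -/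
theorem ocnt_prime_le {p : ℕ} [hp : Fact p.Prime]
    (hc : ∃ x : G, orderOf x = p ^ (Nat.card G).factorization p) :
    ocnt G p ≤ Nat.card (Sylow p G) * (p - 1) := by
  classical
  haveI : Fintype (Sylow p G) := Fintype.ofFinite _
  have hex : ∀ x : {x : G // orderOf x = p}, ∃ P : Sylow p G, zpowers x.1 ≤ P := fun x =>
    (IsPGroup.of_card (n := 1) (by rw [Nat.card_zpowers, x.2, pow_one])).exists_le_sylow
  choose f hf using hex
  let emb : {x : G // orderOf x = p} → Σ P : Sylow p G, {c : (P : Subgroup G) // orderOf c = p} :=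
    fun x => ⟨f x, ⟨x.1, hf x (mem_zpowers x.1)⟩, by rw [Subgroup.orderOf_mk]; exact x.2⟩
  have hinj : Function.Injective emb := by
    intro x y h
    apply Subtype.ext
    exact congrArg (fun z : Σ P : Sylow p G, {c : (P : Subgroup G) // orderOf c = p} =>
      ((z.2.1 : (z.1 : Subgroup G)) : G)) h
  refine (Nat.card_le_card_of_injective emb hinj).trans ?_
  rw [Nat.card_sigma]
  refine (Finset.sum_le_card_nsmul _ _ (p - 1) fun P _ => ?_).trans (le_of_eq ?_)
  · haveI := card_gen_fibre hc P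
    haveI : Fintype (P : Subgroup G) := Fintype.ofFinite _
    rw [Nat.card_eq_fintype_card, Fintype.card_subtype]
    by_cases hdvd : p ∣ Fintype.card (P : Subgroup G)
    · rw [IsCyclic.card_orderOf_eq_totient hdvd, Nat.totient_prime hp.out]
    · rw [Finset.filter_eq_empty_iff.2 (fun c _ h => hdvd ((dvd_of_eq h.symm).trans orderOf_dvd_card))]
      simp
  · rw [smul_eq_mul, Finset.card_univ, Nat.card_eq_fintype_card]

/-- Facts about a Sylow subgroup of prime order. -/
theorem ocnt_of_prime_sylow {p : ℕ} [hp : Fact p.Prime] (hf : (Nat.card G).factorization p = 1) :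
    ocnt G p = Nat.card (Sylow p G) * (p - 1) := by
  have hd : p ∣ Nat.card G := Nat.dvd_of_factorization_pos (by omega)
  have h := ocnt_sylow (G := G) (p := p) (by rw [hf, pow_one]; exact exists_prime_orderOf_dvd_card' p hd)
  rwa [hf, pow_one, Nat.totient_prime hp.out] at h

theorem card_sylow_dvd_card (p : ℕ) [Fact p.Prime] : Nat.card (Sylow p G) ∣ Nat.card G := by
  rw [Sylow.card_eq_index_normalizer (default : Sylow p G)]
  exact Subgroup.index_dvd_card _

/-- A prime element normalising a subgroup of prime order on which it must act trivially. -/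
theorem not_dvd_normalizer {p q : ℕ} [hp : Fact p.Prime] [hq : Fact q.Prime] (hpq : p ≠ q)
    (hf : (Nat.card G).factorization p = 1) (hqp : ¬ q ∣ p - 1) (h0 : ocnt G (p * q) = 0) :
    ¬ Nat.card (Sylow p G) * q ∣ Nat.card G := by
  intro hd
  let P : Sylow p G := default
  have hN : Nat.card (Sylow p G) * Nat.card (normalizer ((P : Subgroup G) : Set G)) = Nat.card G := by
    rw [Sylow.card_eq_index_normalizer P]
    exact Subgroup.index_mul_card _
  rw [← hN] at hd
  obtain ⟨x, hx⟩ := exists_prime_orderOf_dvd_card'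
    (G := normalizer ((P : Subgroup G) : Set G)) q (Nat.dvd_of_mul_dvd_mul_left Nat.card_pos hd)
  have hPc : Nat.card (P : Subgroup G) = p := by rw [Sylow.card_eq_multiplicity, hf, pow_one]
  let φ : MulAut (P : Subgroup G) := Subgroup.normalizerMonoidHom (P : Subgroup G) x
  haveI : IsCyclic (P : Subgroup G) := isCyclic_of_prime_card hPc
  have hcard : Nat.card (MulAut (P : Subgroup G)) = p - 1 := by
    rw [IsCyclic.card_mulAut, hPc, Nat.totient_prime hp.out]
  have h1 : φ = 1 := by
    rcases (Nat.dvd_prime hq.out).1 (hx ▸ orderOf_map_dvd (Subgroup.normalizerMonoidHom (P : Subgroup G)) x)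
      with h | h
    · exact orderOf_eq_one_iff.1 h
    · exact absurd ((h.symm ▸ orderOf_dvd_natCard φ) : q ∣ Nat.card (MulAut (P : Subgroup G)))
        (hcard.symm ▸ hqp)
  obtain ⟨y, hy⟩ := exists_prime_orderOf_dvd_card' (G := (P : Subgroup G)) p (by rw [hPc])
  have hc : Commute (x : G) (y : G) := by
    have h2 : ((φ y : (P : Subgroup G)) : G) = (y : G) := by rw [h1]; rfl
    exact mul_inv_eq_iff_eq_mul.1 (show (x : G) * y * (x : G)⁻¹ = y from h2)
  have hox : orderOf (x : G) = q := (Subgroup.orderOf_coe x).trans hx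
  have hoy : orderOf (y : G) = p := (Subgroup.orderOf_coe y).trans hy
  have := hc.orderOf_mul_eq_mul_orderOf_of_coprime
    (by rw [hox, hoy]; exact (Nat.coprime_primes hq.out hp.out).2 (Ne.symm hpq))
  rw [hox, hoy, mul_comm] at this
  exact absurd h0 (ocnt_pos_iff.2 ⟨_, this⟩).ne'

end H18.Nse
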