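import Cfsg.Agent.H18.Nse.Six

/-!
The counts `{1, 15, 20, 24}` determine the order and the simplicity.
-/

set_option autoImplicit false
set_option linter.all false
set_option maxHeartbeats 1000000

namespace H18.Nse

open H26

variable {G : Type*} [Group G] [Finite G]

theorem five_arith (n s3 s4 s5 s6 s8 s10 s12 : ℕ) (hn : n ∈ (4800 : ℕ).divisors)
    (hs : n = 1 + 15 + s3 + s4 + s5 + s6 + s8 + s10 + s12)
    (h3 : (s3 = 0 ∧ ¬ 3 ∣ n) ∨ (s3 = 20 ∧ 3 ∣ n ∧ 10 ∣ n))
    (h5 : (s5 = 0 ∧ ¬ 5 ∣ n) ∨ (s5 = 24 ∧ 5 ∣ n ∧ (25 ∣ n ∨ 6 ∣ n)))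
    (h4 : s4 = 0 ∨ s4 = 20 ∨ s4 = 24) (h8 : s8 = 0 ∨ (s8 = 24 ∧ s4 = 24))
    (h6 : s6 = 0 ∨ (s3 = 20 ∧ s6 = 24)) (h10 : s10 = 0 ∨ (s5 = 24 ∧ s10 = 20))
    (h12 : s12 = 0 ∨ (s4 = 24 ∧ s6 = 24 ∧ s12 = 24))
    (h20 : s3 = 20 ∨ s4 = 20 ∨ s10 = 20) :
    n = 60 ∧ s3 = 20 ∧ s5 = 24 ∧ s10 = 0 := by
  have key : ∀ x ∈ (4800 : ℕ).divisors, x ≤ 176 →
      x = 1 ∨ x = 2 ∨ x = 3 ∨ x = 4 ∨ x = 5 ∨ x = 6 ∨ x = 8 ∨ x = 10 ∨ x = 12 ∨ x = 15 ∨ x = 16 ∨
      x = 20 ∨ x = 24 ∨ x = 25 ∨ x = 30 ∨ x = 32 ∨ x = 40 ∨ x = 48 ∨ x = 50 ∨ x = 60 ∨ x = 64 ∨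
      x = 75 ∨ x = 80 ∨ x = 96 ∨ x = 100 ∨ x = 120 ∨ x = 150 ∨ x = 160 := by decide +kernel
  rcases h3 with ⟨rfl, h3'⟩ | ⟨rfl, h3a, h3b⟩ <;> rcases h5 with ⟨rfl, h5'⟩ | ⟨rfl, h5a, h5b⟩
  all_goals
    have := key n hn (by omega)
    rcases h4 with rfl | rfl | rfl <;> omega

theorem five_two (hval : ∀ m, 3 ≤ m → ocnt G m = 0 ∨ ocnt G m = 20 ∨ ocnt G m = 24)
    (h2 : ocnt G 2 = 15) :
    (ocnt G 8 = 0 ∨ (ocnt G 8 = 24 ∧ ocnt G 4 = 24)) ∧ ocnt G 16 = 0 ∧
      (Nat.card G).factorization 2 ≤ 6 := by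
  haveI : Fact (Nat.Prime 2) := ⟨by norm_num⟩
  have v4 := hval 4 (by norm_num)
  have v8 := hval 8 (by norm_num)
  have v16 := hval 16 (by norm_num)
  have h8a : ocnt G 8 = 0 ∨ ocnt G 8 = ocnt G 4 := by
    by_contra hc
    have h8n : ocnt G 8 ≠ 0 := by omega
    have hf := frob h8n
    rw [show (8 : ℕ).divisors = {1, 2, 4, 8} by decide] at hf
    simp [ocnt_one] at hf
    have := ocnt_ne_zero_of_dvd (G := G) (d := 4) (m := 8) (by norm_num) h8n
    omega
  have h32 : ocnt G (2 ^ 5) = 0 := by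
    show ocnt G 32 = 0
    have := hval 32 (by norm_num)
    have ht := totient_dvd_ocnt (G := G) 32
    rw [show Nat.totient 32 = 16 by decide] at ht
    omega
  have hA := sylow_dvd (G := G) (p := 2) (by norm_num) 4 fun j hj =>
    ocnt_zero_of_dvd (Nat.pow_dvd_pow 2 (by omega : 5 ≤ j)) h32
  simp [Finset.sum_range_succ, ocnt_one] at hA
  have h16 : ocnt G 16 = 0 := by
    by_contra hc
    have ht := totient_dvd_ocnt (G := G) 16
    rw [show Nat.totient 16 = 8 by decide] at ht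
    have hn8 := ocnt_ne_zero_of_dvd (G := G) (d := 8) (m := 16) (by norm_num) hc
    have hf := frob hc
    rw [show (16 : ℕ).divisors = {1, 2, 4, 8, 16} by decide] at hf
    simp [ocnt_one] at hf
    have ha : (Nat.card G).factorization 2 = 4 := by
      have := le_factorization (G := G) (p := 2) (j := 4) (by norm_num) (by simpa using hc)
      by_contra hne
      have h' : 2 ^ 5 ∣ 1 + ocnt G 2 + ocnt G 4 + ocnt G 8 + ocnt G 16 :=
        (Nat.pow_dvd_pow 2 (by omega)).trans hA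
      norm_num at h'
      omega
    have hex : ∃ x : G, orderOf x = 2 ^ (Nat.card G).factorization 2 := by
      rw [ha]; exact ocnt_pos_iff.1 (Nat.pos_of_ne_zero (by simpa using hc))
    have hs := ocnt_sylow (G := G) (p := 2) hex
    have hle := ocnt_prime_le (G := G) (p := 2) hex
    rw [ha] at hs
    norm_num [show Nat.totient 16 = 8 by decide] at hs hle
    omega
  refine ⟨?_, h16, ?_⟩
  · by_contra hc
    have h8n : ocnt G 8 = 20 ∧ ocnt G 4 = 20 := by omega
    have ha : (Nat.card G).factorization 2 = 3 := by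
      have := le_factorization (G := G) (p := 2) (j := 3) (by norm_num) (by simp; omega)
      by_contra hne
      have h' : 2 ^ 4 ∣ 1 + ocnt G 2 + ocnt G 4 + ocnt G 8 + ocnt G 16 :=
        (Nat.pow_dvd_pow 2 (by omega)).trans hA
      norm_num at h'
      omega
    have hex : ∃ x : G, orderOf x = 2 ^ (Nat.card G).factorization 2 := by
      rw [ha]; exact ocnt_pos_iff.1 (Nat.pos_of_ne_zero (by norm_num; omega))
    have hs := ocnt_sylow (G := G) (p := 2) hex
    have hle := ocnt_prime_le (G := G) (p := 2) hex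
    rw [ha] at hs
    norm_num [show Nat.totient 8 = 4 by decide] at hs hle
    omega
  · by_contra hc
    have h' : 2 ^ 7 ∣ 1 + ocnt G 2 + ocnt G 4 + ocnt G 8 + ocnt G 16 :=
      (Nat.pow_dvd_pow 2 (by omega)).trans hA
    norm_num at h'
    omega

theorem five_three (hval : ∀ m, 3 ≤ m → ocnt G m = 0 ∨ ocnt G m = 20 ∨ ocnt G m = 24)
    (hp : ∀ p : ℕ, p.Prime → p ∣ Nat.card G → p = 2 ∨ (p = 3 ∧ ocnt G 3 = 20) ∨ (p = 5 ∧ ocnt G 5 = 24)) :
    ocnt G 9 = 0 ∧ (Nat.card G).factorization 3 ≤ 1 ∧ ocnt G 25 = 0 ∧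
      (Nat.card G).factorization 5 ≤ 2 := by
  haveI : Fact (Nat.Prime 3) := ⟨by norm_num⟩
  have v9 := hval 9 (by norm_num)
  have v25 := hval 25 (by norm_num)
  have h27 : ocnt G (3 ^ 3) = 0 := by
    show ocnt G 27 = 0
    have := hval 27 (by norm_num)
    have ht := totient_dvd_ocnt (G := G) 27
    rw [show Nat.totient 27 = 18 by decide] at ht
    omega
  have hB := sylow_dvd (G := G) (p := 3) (by norm_num) 2 fun j hj =>
    ocnt_zero_of_dvd (Nat.pow_dvd_pow 3 (by omega : 3 ≤ j)) h27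
  simp [Finset.sum_range_succ, ocnt_one] at hB
  have ht9 := totient_dvd_ocnt (G := G) 9
  rw [show Nat.totient 9 = 6 by decide] at ht9
  have h9 : ocnt G 9 = 0 := by
    by_contra hc
    have hd3 : 3 ∣ Nat.card G := Dvd.dvd.trans (by norm_num) (dvd_card_of_ocnt hc)
    have hs3 := hp 3 (by norm_num) hd3
    have hb : (Nat.card G).factorization 3 = 2 := by
      have := le_factorization (G := G) (p := 3) (j := 2) (by norm_num) (by simpa using hc)
      by_contra hne
      have h' : 3 ^ 3 ∣ 1 + ocnt G 3 + ocnt G 9 := (Nat.pow_dvd_pow 3 (by omega)).trans hB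
      norm_num at h'
      omega
    have hex : ∃ x : G, orderOf x = 3 ^ (Nat.card G).factorization 3 := by
      rw [hb]; exact ocnt_pos_iff.1 (Nat.pos_of_ne_zero (by simpa using hc))
    have hs := ocnt_sylow (G := G) (p := 3) hex
    have hle := ocnt_prime_le (G := G) (p := 3) hex
    rw [hb] at hs
    norm_num [show Nat.totient 9 = 6 by decide] at hs hle
    omega
  have h25 : ocnt G 25 = 0 := by
    by_contra hc
    have ht := totient_dvd_ocnt (G := G) 25
    rw [show Nat.totient 25 = 20 by decide] at ht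
    have hf := frob hc
    rw [show (25 : ℕ).divisors = {1, 5, 25} by decide] at hf
    simp [ocnt_one] at hf
    have := hp 5 (by norm_num) (Dvd.dvd.trans (by norm_num) (dvd_card_of_ocnt hc))
    omega
  have hC := sylow_dvd (G := G) (p := 5) (by norm_num) 1 fun j hj =>
    ocnt_zero_of_dvd (Nat.pow_dvd_pow 5 (by omega : 2 ≤ j)) (by simpa using h25)
  simp [Finset.sum_range_succ, ocnt_one] at hC
  refine ⟨h9, ?_, h25, ?_⟩
  · by_contra hc
    have hs3 := hp 3 (by norm_num) (Nat.dvd_of_factorization_pos (by omega))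
    have h' : 3 ^ 2 ∣ 1 + ocnt G 3 + ocnt G 9 := (Nat.pow_dvd_pow 3 (by omega)).trans hB
    norm_num at h'
    omega
  · by_contra hc
    have hs5 := hp 5 (by norm_num) (Nat.dvd_of_factorization_pos (by omega))
    have h' : 5 ^ 3 ∣ 1 + ocnt G 5 := (Nat.pow_dvd_pow 5 (by omega)).trans hC
    norm_num at h'
    omega

theorem five_structure
    (hval : ∀ m, 3 ≤ m → ocnt G m = 0 ∨ ocnt G m = 20 ∨ ocnt G m = 24)
    (h2 : ocnt G 2 = 15) (ha20 : ∃ m, ocnt G m ≠ 0 ∧ ocnt G m = 20) :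
    Nat.card G = 60 ∧ ocnt G 3 = 20 ∧ ocnt G 5 = 24 ∧ (∀ g : G, orderOf g ∣ 120) ∧
      ocnt G 10 = 0 ∧ ocnt G 15 = 0 := by
  haveI : Fact (Nat.Prime 3) := ⟨by norm_num⟩
  haveI : Fact (Nat.Prime 5) := ⟨by norm_num⟩
  have hprimes : ∀ p : ℕ, p.Prime → p ∣ Nat.card G →
      p = 2 ∨ (p = 3 ∧ ocnt G 3 = 20) ∨ (p = 5 ∧ ocnt G 5 = 24) := by
    intro p hp hd
    rcases eq_or_ne p 2 with h | h
    · exact Or.inl h
    have h3 : 3 ≤ p := by have := hp.two_le; omega
    rcases hval p h3 with hv | hv | hv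
    · exact absurd hv (ocnt_prime_ne_zero hp hd)
    · obtain ⟨hm, hd'⟩ := prime_mem_of_count hp hd hv
      have : p = 3 := (by decide +kernel :
        ∀ q ∈ (20 + 1).divisors, q.Prime → q - 1 ∣ 20 → q = 3) p hm hp hd'
      subst this; exact Or.inr (Or.inl ⟨rfl, hv⟩)
    · obtain ⟨hm, hd'⟩ := prime_mem_of_count hp hd hv
      have : p = 5 := (by decide +kernel :
        ∀ q ∈ (24 + 1).divisors, q.Prime → q - 1 ∣ 24 → q = 5) p hm hp hd'
      subst this; exact Or.inr (Or.inr ⟨rfl, hv⟩)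
  obtain ⟨h8, h16, hA⟩ := five_two hval h2
  obtain ⟨h9, hB, h25, hC⟩ := five_three hval hprimes
  have hord : ∀ g : G, orderOf g ∣ 120 := by
    refine orderOf_dvd_of_prime_pow fun p k hp hk => ?_
    rcases Nat.eq_zero_or_pos k with rfl | hk0
    · simp
    have hpd : p ∣ Nat.card G := (dvd_pow_self p hk0.ne').trans (dvd_card_of_ocnt hk)
    rcases hprimes p hp hpd with rfl | ⟨rfl, -⟩ | ⟨rfl, -⟩
    · exact (Nat.pow_dvd_pow 2 (pow_le_of_zero (e := 3) (by simpa using h16) hk)).trans (by norm_num)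
    · exact (Nat.pow_dvd_pow 3 (pow_le_of_zero (e := 1) (by simpa using h9) hk)).trans (by norm_num)
    · exact (Nat.pow_dvd_pow 5 (pow_le_of_zero (e := 1) (by simpa using h25) hk)).trans (by norm_num)
  have hdvd : Nat.card G ∣ 4800 := by
    refine card_dvd fun p k hp hk hd => ?_
    have hkf : k ≤ (Nat.card G).factorization p :=
      (hp.pow_dvd_iff_le_factorization Nat.card_pos.ne').1 hd
    have hpd : p ∣ Nat.card G := (dvd_pow_self p hk).trans hd
    rcases hprimes p hp hpd with rfl | ⟨rfl, -⟩ | ⟨rfl, -⟩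
    · exact (Nat.pow_dvd_pow 2 (hkf.trans hA)).trans (by norm_num)
    · exact (Nat.pow_dvd_pow 3 (hkf.trans hB)).trans (by norm_num)
    · exact (Nat.pow_dvd_pow 5 (hkf.trans hC)).trans (by norm_num)
  have h3 : (ocnt G 3 = 0 ∧ ¬ 3 ∣ Nat.card G) ∨ (ocnt G 3 = 20 ∧ 3 ∣ Nat.card G ∧ 10 ∣ Nat.card G) := by
    by_cases hd : 3 ∣ Nat.card G
    · have := hprimes 3 (by norm_num) hd
      have hf : (Nat.card G).factorization 3 = 1 := by
        have := Nat.Prime.factorization_pos_of_dvd (by norm_num : Nat.Prime 3) Nat.card_pos.ne' hd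
        omega
      have hn := ocnt_of_prime_sylow (G := G) (p := 3) hf
      have hn10 : Nat.card (Sylow 3 G) = 10 := by omega
      exact Or.inr ⟨by omega, hd, hn10 ▸ card_sylow_dvd_card 3⟩
    · exact Or.inl ⟨of_not_not fun h => hd (dvd_card_of_ocnt h), hd⟩
  have h5 : (ocnt G 5 = 0 ∧ ¬ 5 ∣ Nat.card G) ∨
      (ocnt G 5 = 24 ∧ 5 ∣ Nat.card G ∧ (25 ∣ Nat.card G ∨ 6 ∣ Nat.card G)) := by
    by_cases hd : 5 ∣ Nat.card G
    · have := hprimes 5 (by norm_num) hd
      refine Or.inr ⟨by omega, hd, ?_⟩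
      by_cases hf : (Nat.card G).factorization 5 = 1
      · have hn := ocnt_of_prime_sylow (G := G) (p := 5) hf
        have hn6 : Nat.card (Sylow 5 G) = 6 := by omega
        exact Or.inr (hn6 ▸ card_sylow_dvd_card 5)
      · refine Or.inl (((by norm_num : (25 : ℕ) = 5 ^ 2) ▸ ?_))
        have := Nat.Prime.factorization_pos_of_dvd (by norm_num : Nat.Prime 5) Nat.card_pos.ne' hd
        exact ((by norm_num : Nat.Prime 5).pow_dvd_iff_le_factorization Nat.card_pos.ne').2 (by omega)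
    · exact Or.inl ⟨of_not_not fun h => hd (dvd_card_of_ocnt h), hd⟩
  have v6 := hval 6 (by norm_num)
  have h6 : ocnt G 6 = 0 ∨ (ocnt G 3 = 20 ∧ ocnt G 6 = 24) := by
    by_contra hc
    have hn : ocnt G 6 ≠ 0 := by omega
    have hf := frob hn
    rw [show (6 : ℕ).divisors = {1, 2, 3, 6} by decide] at hf
    simp [ocnt_one] at hf
    have := ocnt_ne_zero_of_dvd (G := G) (d := 3) (m := 6) (by norm_num) hn
    omega
  have v10 := hval 10 (by norm_num)
  have h10 : ocnt G 10 = 0 ∨ (ocnt G 5 = 24 ∧ ocnt G 10 = 20) := by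
    by_contra hc
    have hn : ocnt G 10 ≠ 0 := by omega
    have hf := frob hn
    rw [show (10 : ℕ).divisors = {1, 2, 5, 10} by decide] at hf
    simp [ocnt_one] at hf
    have := ocnt_ne_zero_of_dvd (G := G) (d := 5) (m := 10) (by norm_num) hn
    omega
  have v4 := hval 4 (by norm_num)
  have v12 := hval 12 (by norm_num)
  have h12 : ocnt G 12 = 0 ∨ (ocnt G 4 = 24 ∧ ocnt G 6 = 24 ∧ ocnt G 12 = 24) := by
    by_contra hc
    have hn : ocnt G 12 ≠ 0 := by omega
    have hf := frob hn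
    rw [show (12 : ℕ).divisors = {1, 2, 3, 4, 6, 12} by decide] at hf
    simp [ocnt_one] at hf
    have := ocnt_ne_zero_of_dvd (G := G) (d := 4) (m := 12) (by norm_num) hn
    have := ocnt_ne_zero_of_dvd (G := G) (d := 6) (m := 12) (by norm_num) hn
    omega
  have h15 : ocnt G 15 = 0 := by
    by_contra hn
    have hf := frob hn
    rw [show (15 : ℕ).divisors = {1, 3, 5, 15} by decide] at hf
    simp [ocnt_one] at hf
    have := hval 15 (by norm_num)
    have ht := totient_dvd_ocnt (G := G) 15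
    rw [show Nat.totient 15 = 8 by decide] at ht
    have := ocnt_ne_zero_of_dvd (G := G) (d := 3) (m := 15) (by norm_num) hn
    have := ocnt_ne_zero_of_dvd (G := G) (d := 5) (m := 15) (by norm_num) hn
    omega
  have h20 : ocnt G 20 = 0 := by
    by_contra hn
    have hf := frob hn
    rw [show (20 : ℕ).divisors = {1, 2, 4, 5, 10, 20} by decide] at hf
    simp [ocnt_one] at hf
    have := hval 20 (by norm_num)
    have ht := totient_dvd_ocnt (G := G) 20
    rw [show Nat.totient 20 = 8 by decide] at ht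
    have := ocnt_ne_zero_of_dvd (G := G) (d := 4) (m := 20) (by norm_num) hn
    have := ocnt_ne_zero_of_dvd (G := G) (d := 10) (m := 20) (by norm_num) hn
    omega
  have h24 : ocnt G 24 = 0 := by
    by_contra hn
    have hf := frob hn
    rw [show (24 : ℕ).divisors = {1, 2, 3, 4, 6, 8, 12, 24} by decide] at hf
    simp [ocnt_one] at hf
    have := hval 24 (by norm_num)
    have ht := totient_dvd_ocnt (G := G) 24
    rw [show Nat.totient 24 = 8 by decide] at ht
    have := ocnt_ne_zero_of_dvd (G := G) (d := 8) (m := 24) (by norm_num) hn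
    have := ocnt_ne_zero_of_dvd (G := G) (d := 12) (m := 24) (by norm_num) hn
    omega
  have h30 : ocnt G 30 = 0 := ocnt_zero_of_dvd (by norm_num) h15
  have h40 : ocnt G 40 = 0 := ocnt_zero_of_dvd (by norm_num) h20
  have h60 : ocnt G 60 = 0 := ocnt_zero_of_dvd (by norm_num) h20
  have h120 : ocnt G 120 = 0 := ocnt_zero_of_dvd (by norm_num) h20
  have hdiv : (120 : ℕ).divisors = {1, 2, 3, 4, 5, 6, 8, 10, 12, 15, 20, 24, 30, 40, 60, 120} := by
    decide +kernel
  have hsum := card_eq_sum (G := G) (E := 120) (by norm_num) hord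
  rw [hdiv] at hsum
  simp [ocnt_one] at hsum
  have h20' : ocnt G 3 = 20 ∨ ocnt G 4 = 20 ∨ ocnt G 10 = 20 := by
    obtain ⟨m, hm, hm20⟩ := ha20
    obtain ⟨g, rfl⟩ := ocnt_pos_iff.1 (Nat.pos_of_ne_zero hm)
    have hmem := Nat.mem_divisors.2 ⟨hord g, (by norm_num : (120 : ℕ) ≠ 0)⟩
    rw [hdiv] at hmem
    simp only [Finset.mem_insert, Finset.mem_singleton] at hmem
    have := ocnt_one (G := G)
    rcases hmem with h | h | h | h | h | h | h | h | h | h | h | h | h | h | h | h <;>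
      rw [h] at hm20 <;> first | (left; exact hm20) | (right; left; exact hm20) |
        (right; right; exact hm20) | omega
  obtain ⟨hc, hs3, hs5, hs10⟩ := five_arith _ (ocnt G 3) (ocnt G 4) (ocnt G 5) (ocnt G 6) (ocnt G 8) (ocnt G 10) (ocnt G 12)
    (Nat.mem_divisors.2 ⟨hdvd, by norm_num⟩)
    (by rw [hsum, h2, h15, h20, h24, h30, h40, h60, h120]; ring)
    h3 h5 v4 h8 h6 h10 h12 h20'
  exact ⟨hc, hs3, hs5, hord, hs10, h15⟩

end H18.Nse
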