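import Cfsg.Agent.H18.Nse.Five
import Cfsg.Agent.H18.Nse.AltData
import Cfsg.Agent.S0494
import Cfsg.Agent.S0497

/-!
Recognition of the small alternating groups by their element-order counts.
-/

set_option autoImplicit false
set_option linter.all false
set_option maxHeartbeats 1000000

namespace H18.Nse

open H26

variable {G : Type*} [Group G] [Finite G]

theorem recog_four (h : ∀ v, v ∈ nseSet G ↔ v = 1 ∨ v = 3 ∨ v = 8) :
    Nonempty (G ≃* alternatingGroup (Fin 4)) := by
  have hv : ∀ m, ocnt G m ≠ 0 → ocnt G m = 1 ∨ ocnt G m = 3 ∨ ocnt G m = 8 :=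
    fun m hm => (h _).1 (mem_nseSet_iff.2 ⟨m, hm, rfl⟩)
  have hval : ∀ m, 3 ≤ m → ocnt G m = 0 ∨ ocnt G m = 8 := by
    intro m hm
    have := even_ocnt (G := G) hm
    rw [Nat.even_iff] at this
    by_cases h0 : ocnt G m = 0
    · exact Or.inl h0
    · have := hv m h0; omega
  have h2 : ocnt G 2 = 3 :=
    ocnt_two_of_odd (by norm_num) (by decide) (mem_nseSet_iff.1 ((h 3).2 (by simp)))
  have hprimes : ∀ p : ℕ, p.Prime → p ∣ Nat.card G → p = 2 ∨ p = 3 := by
    intro p hp hd
    rcases eq_or_ne p 2 with h' | h'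
    · exact Or.inl h'
    rcases hval p (by have := hp.two_le; omega) with hv | hv
    · exact absurd hv (ocnt_prime_ne_zero hp hd)
    · obtain ⟨hm, hd'⟩ := prime_mem_of_count hp hd hv
      exact Or.inr ((by decide +kernel :
        ∀ q ∈ (8 + 1).divisors, q.Prime → q - 1 ∣ 8 → q = 3) p hm hp hd')
  have h8 : ocnt G 8 = 0 := by
    by_contra hn
    have hf := frob hn
    rw [show (8 : ℕ).divisors = {1, 2, 4, 8} by decide] at hf
    simp [ocnt_one] at hf
    have := hval 8 (by norm_num); have := hval 4 (by norm_num)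
    have := ocnt_ne_zero_of_dvd (G := G) (d := 4) (m := 8) (by norm_num) hn
    omega
  have h9 : ocnt G 9 = 0 := by
    have := hval 9 (by norm_num)
    have ht := totient_dvd_ocnt (G := G) 9
    rw [show Nat.totient 9 = 6 by decide] at ht
    omega
  have h6 : ocnt G 6 = 0 := by
    by_contra hn
    have hf := frob hn
    rw [show (6 : ℕ).divisors = {1, 2, 3, 6} by decide] at hf
    simp [ocnt_one] at hf
    have := hval 6 (by norm_num); have := hval 3 (by norm_num)
    have := ocnt_ne_zero_of_dvd (G := G) (d := 3) (m := 6) (by norm_num) hn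
    omega
  have hord : ∀ g : G, orderOf g ∣ 12 := by
    refine orderOf_dvd_of_prime_pow fun p k hp hk => ?_
    rcases Nat.eq_zero_or_pos k with rfl | hk0
    · simp
    rcases hprimes p hp ((dvd_pow_self p hk0.ne').trans (dvd_card_of_ocnt hk)) with rfl | rfl
    · exact (Nat.pow_dvd_pow 2 (pow_le_of_zero (e := 2) (by simpa using h8) hk)).trans (by norm_num)
    · exact (Nat.pow_dvd_pow 3 (pow_le_of_zero (e := 1) (by simpa using h9) hk)).trans (by norm_num)
  have hsum := card_eq_sum (G := G) (E := 12) (by norm_num) hord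
  rw [show (12 : ℕ).divisors = {1, 2, 3, 4, 6, 12} by decide] at hsum
  simp [ocnt_one] at hsum
  have h12 : ocnt G 12 = 0 := ocnt_zero_of_dvd (by norm_num) h6
  have v3 := hval 3 (by norm_num)
  have v4 := hval 4 (by norm_num)
  have e8 : ocnt G 3 = 8 ∨ ocnt G 4 = 8 := by
    obtain ⟨m, hm, hm8⟩ := mem_nseSet_iff.1 ((h 8).2 (by simp))
    obtain ⟨g, rfl⟩ := ocnt_pos_iff.1 (Nat.pos_of_ne_zero hm)
    have hmem := Nat.mem_divisors.2 ⟨hord g, (by norm_num : (12 : ℕ) ≠ 0)⟩
    rw [show (12 : ℕ).divisors = {1, 2, 3, 4, 6, 12} by decide] at hmem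
    simp only [Finset.mem_insert, Finset.mem_singleton] at hmem
    have := ocnt_one (G := G)
    rcases hmem with h' | h' | h' | h' | h' | h' <;> rw [h'] at hm8 <;> omega
  have hne20 : Nat.card G ≠ 20 := by
    intro hc
    rcases hprimes 5 (by norm_num) (hc ▸ by norm_num) with h' | h' <;> omega
  have hc : Nat.card G = 12 := by omega
  have h3 : ocnt G 3 = 8 := by
    have := ocnt_prime_ne_zero (G := G) (p := 3) (by norm_num) (hc ▸ by norm_num)
    omega
  exact iso_alt_four hc h3

theorem recog_five (h : ∀ v, v ∈ nseSet G ↔ v = 1 ∨ v = 15 ∨ v = 20 ∨ v = 24) :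
    Nonempty (G ≃* alternatingGroup (Fin 5)) := by
  have hval : ∀ m, 3 ≤ m → ocnt G m = 0 ∨ ocnt G m = 20 ∨ ocnt G m = 24 := by
    intro m hm
    have := even_ocnt (G := G) hm
    rw [Nat.even_iff] at this
    by_cases h0 : ocnt G m = 0
    · exact Or.inl h0
    · have := (h _).1 (mem_nseSet_iff.2 ⟨m, h0, rfl⟩); omega
  obtain ⟨hc, h3, h5, hord, h10, h15⟩ := five_structure hval
    (ocnt_two_of_odd (by norm_num) (by decide) (mem_nseSet_iff.1 ((h 15).2 (by simp))))
    (mem_nseSet_iff.1 ((h 20).2 (by simp)))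
  have key : ∀ q ∈ (120 : ℕ).divisors, q.Prime → q ≠ 5 → q = 2 ∨ q = 3 := by decide +kernel
  haveI : IsSimpleGroup G := by
    refine isSimple (by omega) ?_ ?_ ?_ ?_ (by omega)
    · rw [hc, show (60 : ℕ) = 5 * 12 by norm_num, Nat.factorization_mul (by norm_num) (by norm_num)]
      simp [Nat.Prime.factorization (show Nat.Prime 5 by norm_num),
        Nat.factorization_eq_zero_of_not_dvd (show ¬ 5 ∣ 12 by norm_num)]
    · intro q hq hq5
      by_contra hn
      obtain ⟨g, hg⟩ := ocnt_pos_iff.1 (Nat.pos_of_ne_zero hn)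
      have hd : q ∣ 120 := (dvd_mul_left q 5).trans (hg ▸ hord g)
      rcases key q (Nat.mem_divisors.2 ⟨hd, by norm_num⟩) hq hq5 with rfl | rfl
      · exact hn h10
      · exact hn h15
    · intro q k hq hq5 hk hd hm
      rw [hc] at hd
      have key2 : ∀ d ∈ (60 : ℕ).divisors, d % 5 = 1 → d = 1 ∨ d = 6 := by decide +kernel
      rcases key2 _ (Nat.mem_divisors.2 ⟨hd, by norm_num⟩) hm with h' | h'
      · exact hq.one_lt.ne' ((Nat.pow_eq_one.1 h').resolve_right hk)
      · have e2 : 2 = q := (Nat.prime_dvd_prime_iff_eq (by norm_num) hq).1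
          ((by norm_num : Nat.Prime 2).dvd_of_dvd_pow (h'.symm ▸ by norm_num : 2 ∣ q ^ k))
        have e3 : 3 = q := (Nat.prime_dvd_prime_iff_eq (by norm_num) hq).1
          ((by norm_num : Nat.Prime 3).dvd_of_dvd_pow (h'.symm ▸ by norm_num : 3 ∣ q ^ k))
        omega
    · intro d hd hne h5d hle
      rw [hc] at hd hne ⊢
      rw [h5] at hle
      have key3 : ∀ d ∈ (60 : ℕ).divisors, d ≠ 60 → 25 ≤ d → d = 30 := by decide +kernel
      have := key3 d (Nat.mem_divisors.2 ⟨hd, by norm_num⟩) hne hle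
      omega
  exact Cfsg.Agent.S0494.result hc

theorem recog_six (h : ∀ v, v ∈ nseSet G ↔ v = 1 ∨ v = 45 ∨ v = 80 ∨ v = 90 ∨ v = 144) :
    Nonempty (G ≃* alternatingGroup (Fin 6)) := by
  have hval : ∀ m, 3 ≤ m →
      ocnt G m = 0 ∨ ocnt G m = 80 ∨ ocnt G m = 90 ∨ ocnt G m = 144 := by
    intro m hm
    have := even_ocnt (G := G) hm
    rw [Nat.even_iff] at this
    by_cases h0 : ocnt G m = 0
    · exact Or.inl h0
    · have := (h _).1 (mem_nseSet_iff.2 ⟨m, h0, rfl⟩); omega
  obtain ⟨hc, h3, h5, hord, h10, h15⟩ := six_structure hval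
    (ocnt_two_of_odd (by norm_num) (by decide) (mem_nseSet_iff.1 ((h 45).2 (by simp))))
    (mem_nseSet_iff.1 ((h 80).2 (by simp))) (mem_nseSet_iff.1 ((h 90).2 (by simp)))
    (mem_nseSet_iff.1 ((h 144).2 (by simp)))
  have key : ∀ q ∈ (60 : ℕ).divisors, q.Prime → q ≠ 5 → q = 2 ∨ q = 3 := by decide +kernel
  haveI : IsSimpleGroup G := by
    refine isSimple (by omega) ?_ ?_ ?_ ?_ (by omega)
    · rw [hc, show (360 : ℕ) = 5 * 72 by norm_num, Nat.factorization_mul (by norm_num) (by norm_num)]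
      simp [Nat.Prime.factorization (show Nat.Prime 5 by norm_num),
        Nat.factorization_eq_zero_of_not_dvd (show ¬ 5 ∣ 72 by norm_num)]
    · intro q hq hq5
      by_contra hn
      obtain ⟨g, hg⟩ := ocnt_pos_iff.1 (Nat.pos_of_ne_zero hn)
      have hd : q ∣ 60 := (dvd_mul_left q 5).trans (hg ▸ hord g)
      rcases key q (Nat.mem_divisors.2 ⟨hd, by norm_num⟩) hq hq5 with rfl | rfl
      · exact hn h10
      · exact hn h15
    · intro q k hq hq5 hk hd hm
      rw [hc] at hd
      have key2 : ∀ d ∈ (360 : ℕ).divisors, d % 5 = 1 → d = 1 ∨ d = 6 ∨ d = 36 := by decide +kernel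
      rcases key2 _ (Nat.mem_divisors.2 ⟨hd, by norm_num⟩) hm with h' | h'
      · exact hq.one_lt.ne' ((Nat.pow_eq_one.1 h').resolve_right hk)
      · have e2 : 2 = q := (Nat.prime_dvd_prime_iff_eq (by norm_num) hq).1
          ((by norm_num : Nat.Prime 2).dvd_of_dvd_pow (by rcases h' with h' | h' <;> rw [h'] <;> norm_num : 2 ∣ q ^ k))
        have e3 : 3 = q := (Nat.prime_dvd_prime_iff_eq (by norm_num) hq).1
          ((by norm_num : Nat.Prime 3).dvd_of_dvd_pow (by rcases h' with h' | h' <;> rw [h'] <;> norm_num : 3 ∣ q ^ k))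
        omega
    · intro d hd hne h5d hle
      rw [hc] at hd hne ⊢
      rw [h5] at hle
      have key3 : ∀ d ∈ (360 : ℕ).divisors, d ≠ 360 → 145 ≤ d → d = 180 := by decide +kernel
      have := key3 d (Nat.mem_divisors.2 ⟨hd, by norm_num⟩) hne hle
      omega
  exact Cfsg.Agent.S0497.result hc

end H18.Nse
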