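import Cfsg.Agent.H18.Nse.Struct

/-!
The counts `{1, 45, 80, 90, 144}` determine the order and the simplicity.
-/

set_option autoImplicit false
set_option linter.all false
set_option maxHeartbeats 1000000

namespace H18.Nse

open H26

variable {G : Type*} [Group G] [Finite G]

theorem ocnt_zero_of_dvd {d m : ℕ} (hdm : d ∣ m) (h : ocnt G d = 0) : ocnt G m = 0 :=
  of_not_not fun hne => ocnt_ne_zero_of_dvd hdm hne h

/-- Higher powers vanish with the first excluded one. -/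
theorem pow_le_of_zero {p e k : ℕ} (h : ocnt G (p ^ (e + 1)) = 0) (hk : ocnt G (p ^ k) ≠ 0) :
    k ≤ e := by
  by_contra hlt
  exact hk (ocnt_zero_of_dvd (Nat.pow_dvd_pow p (by omega)) h)

theorem ocnt_two_of_odd {v : ℕ} (hv1 : v ≠ 1) (hv : Odd v)
    (hatt : ∃ m, ocnt G m ≠ 0 ∧ ocnt G m = v) : ocnt G 2 = v := by
  obtain ⟨m, hm, rfl⟩ := hatt
  obtain ⟨g, hg⟩ := ocnt_pos_iff.1 (Nat.pos_of_ne_zero hm)
  have hm0 : 0 < m := hg ▸ orderOf_pos g
  rcases (show m = 1 ∨ m = 2 ∨ 3 ≤ m by omega) with rfl | rfl | h3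
  · exact absurd ocnt_one hv1
  · rfl
  · exact absurd (even_ocnt h3) (Nat.not_even_iff_odd.2 hv)

theorem prime_mem_of_count {p v : ℕ} (hp : p.Prime) (hdvd : p ∣ Nat.card G)
    (hv : ocnt G p = v) : p ∈ (v + 1).divisors ∧ (p - 1) ∣ v := by
  refine ⟨Nat.mem_divisors.2 ⟨?_, by omega⟩, ?_⟩
  · rw [← hv, add_comm]; exact dvd_one_add hp hdvd
  · rw [← hv, ← Nat.totient_prime hp]; exact totient_dvd_ocnt p

theorem six_primes (hval : ∀ m, 3 ≤ m → ocnt G m = 0 ∨ ocnt G m = 80 ∨ ocnt G m = 90 ∨ ocnt G m = 144) :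
    (∀ p : ℕ, p.Prime → p ∣ Nat.card G → p = 2 ∨ (p = 3 ∧ ocnt G 3 = 80) ∨ (p = 5 ∧ ocnt G 5 = 144) ∨ (p = 7 ∧ ocnt G 7 = 90)) ∧
    ((¬ 3 ∣ Nat.card G ∧ ocnt G 3 = 0) ∨ (3 ∣ Nat.card G ∧ ocnt G 3 = 80)) ∧
    ((¬ 5 ∣ Nat.card G ∧ ocnt G 5 = 0) ∨ (5 ∣ Nat.card G ∧ ocnt G 5 = 144)) ∧
    ((¬ 7 ∣ Nat.card G ∧ ocnt G 7 = 0) ∨ (7 ∣ Nat.card G ∧ ocnt G 7 = 90)) := by
  haveI : Fact (Nat.Prime 2) := ⟨by norm_num⟩
  haveI : Fact (Nat.Prime 3) := ⟨by norm_num⟩
  haveI : Fact (Nat.Prime 5) := ⟨by norm_num⟩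
  haveI : Fact (Nat.Prime 7) := ⟨by norm_num⟩
  have h1 := ocnt_one (G := G)
  have tot : ∀ m : ℕ, m.totient ∣ ocnt G m := totient_dvd_ocnt
  -- primes
  have hprimes : ∀ p : ℕ, p.Prime → p ∣ Nat.card G →
      p = 2 ∨ (p = 3 ∧ ocnt G 3 = 80) ∨ (p = 5 ∧ ocnt G 5 = 144) ∨ (p = 7 ∧ ocnt G 7 = 90) := by
    intro p hp hd
    rcases eq_or_ne p 2 with h | h
    · exact Or.inl h
    have h3 : 3 ≤ p := by have := hp.two_le; omega
    rcases hval p h3 with hv | hv | hv | hv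
    · exact absurd hv (ocnt_prime_ne_zero hp hd)
    · obtain ⟨hm, hd'⟩ := prime_mem_of_count hp hd hv
      have : p = 3 := (by decide +kernel :
        ∀ q ∈ (80 + 1).divisors, q.Prime → q - 1 ∣ 80 → q = 3) p hm hp hd'
      subst this; exact Or.inr (Or.inl ⟨rfl, hv⟩)
    · obtain ⟨hm, hd'⟩ := prime_mem_of_count hp hd hv
      have : p = 7 := (by decide +kernel :
        ∀ q ∈ (90 + 1).divisors, q.Prime → q - 1 ∣ 90 → q = 7) p hm hp hd'
      subst this; exact Or.inr (Or.inr (Or.inr ⟨rfl, hv⟩))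
    · obtain ⟨hm, hd'⟩ := prime_mem_of_count hp hd hv
      have : p = 5 := (by decide +kernel :
        ∀ q ∈ (144 + 1).divisors, q.Prime → q - 1 ∣ 144 → q = 5) p hm hp hd'
      subst this; exact Or.inr (Or.inr (Or.inl ⟨rfl, hv⟩))
  have hp3 : (¬ 3 ∣ Nat.card G ∧ ocnt G 3 = 0) ∨ (3 ∣ Nat.card G ∧ ocnt G 3 = 80) := by
    by_cases hd : 3 ∣ Nat.card G
    · have := hprimes 3 (by norm_num) hd; omega
    · exact Or.inl ⟨hd, of_not_not fun h => hd (dvd_card_of_ocnt h)⟩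
  have hp5 : (¬ 5 ∣ Nat.card G ∧ ocnt G 5 = 0) ∨ (5 ∣ Nat.card G ∧ ocnt G 5 = 144) := by
    by_cases hd : 5 ∣ Nat.card G
    · have := hprimes 5 (by norm_num) hd; omega
    · exact Or.inl ⟨hd, of_not_not fun h => hd (dvd_card_of_ocnt h)⟩
  have hp7 : (¬ 7 ∣ Nat.card G ∧ ocnt G 7 = 0) ∨ (7 ∣ Nat.card G ∧ ocnt G 7 = 90) := by
    by_cases hd : 7 ∣ Nat.card G
    · have := hprimes 7 (by norm_num) hd; omega
    · exact Or.inl ⟨hd, of_not_not fun h => hd (dvd_card_of_ocnt h)⟩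
  exact ⟨hprimes, hp3, hp5, hp7⟩

theorem six_two (hval : ∀ m, 3 ≤ m → ocnt G m = 0 ∨ ocnt G m = 80 ∨ ocnt G m = 90 ∨ ocnt G m = 144) (h2 : ocnt G 2 = 45) :
    (ocnt G 4 = 0 ∨ ocnt G 4 = 90) ∧ ocnt G 8 = 0 ∧ (Nat.card G).factorization 2 ≤ 3 := by
  haveI : Fact (Nat.Prime 2) := ⟨by norm_num⟩
  haveI : Fact (Nat.Prime 3) := ⟨by norm_num⟩
  haveI : Fact (Nat.Prime 5) := ⟨by norm_num⟩
  haveI : Fact (Nat.Prime 7) := ⟨by norm_num⟩
  have h1 := ocnt_one (G := G)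
  have tot : ∀ m : ℕ, m.totient ∣ ocnt G m := totient_dvd_ocnt
  -- the prime 2
  have h4 : ocnt G 4 = 0 ∨ ocnt G 4 = 90 := by
    by_contra hc
    have hf := frob (G := G) (m := 4) (by omega)
    rw [show (4 : ℕ).divisors = {1, 2, 4} by decide] at hf
    simp [ocnt_one] at hf
    have := hval 4 (by norm_num)
    omega
  have h8a : ocnt G 8 = 0 ∨ ((ocnt G 8 = 80 ∨ ocnt G 8 = 144) ∧ ocnt G 4 = 90) := by
    by_contra hc
    have := hval 8 (by norm_num)
    have ht := tot 8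
    rw [show Nat.totient 8 = 4 by decide] at ht
    have := ocnt_ne_zero_of_dvd (G := G) (d := 4) (m := 8) (by norm_num) (by omega)
    omega
  have h16 : ocnt G (2 ^ 4) = 0 := by
    show ocnt G 16 = 0
    by_contra hc
    have hf := frob hc
    rw [show (16 : ℕ).divisors = {1, 2, 4, 8, 16} by decide] at hf
    simp [ocnt_one] at hf
    have := hval 16 (by norm_num)
    have ht := tot 16
    rw [show Nat.totient 16 = 8 by decide] at ht
    have := ocnt_ne_zero_of_dvd (G := G) (d := 8) (m := 16) (by norm_num) hc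
    omega
  have hA := sylow_dvd (G := G) (p := 2) (by norm_num) 3 fun j hj =>
    ocnt_zero_of_dvd (Nat.pow_dvd_pow 2 (by omega : 4 ≤ j)) h16
  simp [Finset.sum_range_succ, ocnt_one] at hA
  have hA3 : (Nat.card G).factorization 2 ≤ 3 := by
    by_contra hc
    have h16' : 2 ^ 4 ∣ 1 + ocnt G 2 + ocnt G 4 + ocnt G 8 :=
      (Nat.pow_dvd_pow 2 (by omega)).trans hA
    norm_num at h16'
    omega
  have h8 : ocnt G 8 = 0 := by
    by_contra hc
    have ha : (Nat.card G).factorization 2 = 3 := by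
      have := le_factorization (G := G) (p := 2) (j := 3) (by norm_num) (by simpa using hc)
      omega
    have hc8 : ocnt G (2 ^ 3) ≠ 0 := by simpa using hc
    have hs := ocnt_sylow (G := G) (p := 2) (by rw [ha]; exact ocnt_pos_iff.1 (Nat.pos_of_ne_zero hc8))
    rw [ha] at hs
    norm_num [show Nat.totient 8 = 4 by decide] at hs
    have hn := card_sylow_modEq_one 2 G
    unfold Nat.ModEq at hn
    omega
  exact ⟨h4, h8, hA3⟩

theorem six_three (hval : ∀ m, 3 ≤ m → ocnt G m = 0 ∨ ocnt G m = 80 ∨ ocnt G m = 90 ∨ ocnt G m = 144)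
    (hp3 : ((¬ 3 ∣ Nat.card G ∧ ocnt G 3 = 0) ∨ (3 ∣ Nat.card G ∧ ocnt G 3 = 80))) :
    ocnt G 9 = 0 ∧ (Nat.card G).factorization 3 ≤ 4 := by
  haveI : Fact (Nat.Prime 2) := ⟨by norm_num⟩
  haveI : Fact (Nat.Prime 3) := ⟨by norm_num⟩
  haveI : Fact (Nat.Prime 5) := ⟨by norm_num⟩
  haveI : Fact (Nat.Prime 7) := ⟨by norm_num⟩
  have h1 := ocnt_one (G := G)
  have tot : ∀ m : ℕ, m.totient ∣ ocnt G m := totient_dvd_ocnt
  -- the prime 3
  have h9a : ocnt G 9 = 0 ∨ (ocnt G 3 = 80 ∧ (ocnt G 9 = 90 ∨ ocnt G 9 = 144)) := by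
    by_contra hc
    have := hval 9 (by norm_num)
    have ht := tot 9
    rw [show Nat.totient 9 = 6 by decide] at ht
    have := ocnt_ne_zero_of_dvd (G := G) (d := 3) (m := 9) (by norm_num) (by omega)
    omega
  have h27 : ocnt G (3 ^ 3) = 0 := by
    show ocnt G 27 = 0
    by_contra hc
    have hf := frob hc
    rw [show (27 : ℕ).divisors = {1, 3, 9, 27} by decide] at hf
    simp [ocnt_one] at hf
    have := hval 27 (by norm_num)
    have ht := tot 27
    rw [show Nat.totient 27 = 18 by decide] at ht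
    have := ocnt_ne_zero_of_dvd (G := G) (d := 9) (m := 27) (by norm_num) hc
    omega
  have hB := sylow_dvd (G := G) (p := 3) (by norm_num) 2 fun j hj =>
    ocnt_zero_of_dvd (Nat.pow_dvd_pow 3 (by omega : 3 ≤ j)) h27
  simp [Finset.sum_range_succ, ocnt_one] at hB
  have h9 : ocnt G 9 = 0 := by
    by_contra hc
    have hb : (Nat.card G).factorization 3 = 2 := by
      have := le_factorization (G := G) (p := 3) (j := 2) (by norm_num) (by simpa using hc)
      by_contra hne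
      have h27' : 3 ^ 3 ∣ 1 + ocnt G 3 + ocnt G 9 := (Nat.pow_dvd_pow 3 (by omega)).trans hB
      norm_num at h27'
      omega
    have hc9 : ocnt G (3 ^ 2) ≠ 0 := by simpa using hc
    have hs := ocnt_sylow (G := G) (p := 3) (by rw [hb]; exact ocnt_pos_iff.1 (Nat.pos_of_ne_zero hc9))
    rw [hb] at hs
    norm_num [show Nat.totient 9 = 6 by decide] at hs
    have hn := card_sylow_modEq_one 3 G
    unfold Nat.ModEq at hn
    omega
  have hB4 : (Nat.card G).factorization 3 ≤ 4 := by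
    by_contra hc
    have h' : 3 ^ 5 ∣ 1 + ocnt G 3 + ocnt G 9 := (Nat.pow_dvd_pow 3 (by omega)).trans hB
    norm_num at h'
    omega
  exact ⟨h9, hB4⟩

theorem six_five (hval : ∀ m, 3 ≤ m → ocnt G m = 0 ∨ ocnt G m = 80 ∨ ocnt G m = 90 ∨ ocnt G m = 144)
    (hp5 : ((¬ 5 ∣ Nat.card G ∧ ocnt G 5 = 0) ∨ (5 ∣ Nat.card G ∧ ocnt G 5 = 144))) :
    ocnt G 25 = 0 ∧ (Nat.card G).factorization 5 ≤ 1 := by
  haveI : Fact (Nat.Prime 2) := ⟨by norm_num⟩
  haveI : Fact (Nat.Prime 3) := ⟨by norm_num⟩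
  haveI : Fact (Nat.Prime 5) := ⟨by norm_num⟩
  haveI : Fact (Nat.Prime 7) := ⟨by norm_num⟩
  have h1 := ocnt_one (G := G)
  have tot : ∀ m : ℕ, m.totient ∣ ocnt G m := totient_dvd_ocnt
  -- the prime 5
  have h25a : ocnt G 25 = 0 ∨ (ocnt G 5 = 144 ∧ ocnt G 25 = 80) := by
    by_contra hc
    have := hval 25 (by norm_num)
    have ht := tot 25
    rw [show Nat.totient 25 = 20 by decide] at ht
    have := ocnt_ne_zero_of_dvd (G := G) (d := 5) (m := 25) (by norm_num) (by omega)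
    omega
  have h125 : ocnt G (5 ^ 3) = 0 := by
    show ocnt G 125 = 0
    have := hval 125 (by norm_num)
    have ht := tot 125
    rw [show Nat.totient 125 = 100 by decide +kernel] at ht
    omega
  have hC := sylow_dvd (G := G) (p := 5) (by norm_num) 2 fun j hj =>
    ocnt_zero_of_dvd (Nat.pow_dvd_pow 5 (by omega : 3 ≤ j)) h125
  simp [Finset.sum_range_succ, ocnt_one] at hC
  have h25 : ocnt G 25 = 0 := by
    by_contra hc
    have hb : (Nat.card G).factorization 5 = 2 := by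
      have := le_factorization (G := G) (p := 5) (j := 2) (by norm_num) (by simpa using hc)
      by_contra hne
      have h' : 5 ^ 3 ∣ 1 + ocnt G 5 + ocnt G 25 := (Nat.pow_dvd_pow 5 (by omega)).trans hC
      norm_num at h'
      omega
    have hc' : ocnt G (5 ^ 2) ≠ 0 := by simpa using hc
    have hs := ocnt_sylow (G := G) (p := 5) (by rw [hb]; exact ocnt_pos_iff.1 (Nat.pos_of_ne_zero hc'))
    rw [hb] at hs
    norm_num [show Nat.totient 25 = 20 by decide] at hs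
    have hn := card_sylow_modEq_one 5 G
    unfold Nat.ModEq at hn
    omega
  have hC1 : (Nat.card G).factorization 5 ≤ 1 := by
    by_contra hc
    have h' : 5 ^ 2 ∣ 1 + ocnt G 5 + ocnt G 25 := (Nat.pow_dvd_pow 5 (by omega)).trans hC
    norm_num at h'
    omega
  exact ⟨h25, hC1⟩

theorem six_seven (hval : ∀ m, 3 ≤ m → ocnt G m = 0 ∨ ocnt G m = 80 ∨ ocnt G m = 90 ∨ ocnt G m = 144)
    (hp3 : ((¬ 3 ∣ Nat.card G ∧ ocnt G 3 = 0) ∨ (3 ∣ Nat.card G ∧ ocnt G 3 = 80)))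
    (hp5 : ((¬ 5 ∣ Nat.card G ∧ ocnt G 5 = 0) ∨ (5 ∣ Nat.card G ∧ ocnt G 5 = 144)))
    (hp7 : ((¬ 7 ∣ Nat.card G ∧ ocnt G 7 = 0) ∨ (7 ∣ Nat.card G ∧ ocnt G 7 = 90)))
    (hC1 : (Nat.card G).factorization 5 ≤ 1) :
    ocnt G 15 = 0 ∧ ¬ 7 ∣ Nat.card G ∧ (ocnt G 5 ≠ 0 → 36 ∣ Nat.card G ∧ ¬ 108 ∣ Nat.card G) := by
  haveI : Fact (Nat.Prime 2) := ⟨by norm_num⟩
  haveI : Fact (Nat.Prime 3) := ⟨by norm_num⟩
  haveI : Fact (Nat.Prime 5) := ⟨by norm_num⟩
  haveI : Fact (Nat.Prime 7) := ⟨by norm_num⟩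
  have h1 := ocnt_one (G := G)
  have tot : ∀ m : ℕ, m.totient ∣ ocnt G m := totient_dvd_ocnt
  -- the prime 7 does not occur
  have h15 : ocnt G 15 = 0 := by
    by_contra hc
    have hf := frob hc
    rw [show (15 : ℕ).divisors = {1, 3, 5, 15} by decide] at hf
    simp [ocnt_one] at hf
    have := hval 15 (by norm_num)
    have ht := tot 15
    rw [show Nat.totient 15 = 8 by decide] at ht
    have := ocnt_ne_zero_of_dvd (G := G) (d := 3) (m := 15) (by norm_num) hc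
    have := ocnt_ne_zero_of_dvd (G := G) (d := 5) (m := 15) (by norm_num) hc
    omega
  have h36 : ocnt G 5 ≠ 0 → 36 ∣ Nat.card G ∧ ¬ 108 ∣ Nat.card G ∧
      (7 ∣ Nat.card G → ocnt G 35 = 0 → False) := by
    intro h5
    have hf : (Nat.card G).factorization 5 = 1 := by
      have := le_factorization (G := G) (p := 5) (j := 1) (by norm_num) (by simpa using h5)
      omega
    have hn := ocnt_of_prime_sylow (G := G) (p := 5) hf
    have hn36 : Nat.card (Sylow 5 G) = 36 := by omega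
    have hd : 36 ∣ Nat.card G := hn36 ▸ card_sylow_dvd_card 5
    refine ⟨hd, fun h108 => ?_, fun h7 h35 => ?_⟩
    · refine not_dvd_normalizer (G := G) (p := 5) (q := 3) (by norm_num) hf (by norm_num) h15 ?_
      rw [hn36]; exact h108
    · refine not_dvd_normalizer (G := G) (p := 5) (q := 7) (by norm_num) hf (by norm_num) h35 ?_
      rw [hn36]
      exact Nat.Coprime.mul_dvd_of_dvd_of_dvd (by norm_num) hd h7
  have h7 : ¬ 7 ∣ Nat.card G := by
    intro hd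
    have hs7 : ocnt G 7 = 90 := by omega
    have hf : (Nat.card G).factorization 7 = 1 := by
      have h49 : ocnt G 49 = 0 := by
        have := hval 49 (by norm_num)
        have ht := tot 49
        rw [show Nat.totient 49 = 42 by decide] at ht
        omega
      have h := sylow_dvd (G := G) (p := 7) (by norm_num) 1 fun j hj =>
        ocnt_zero_of_dvd (Nat.pow_dvd_pow 7 (by omega : 2 ≤ j)) (by simpa using h49)
      simp [Finset.sum_range_succ, ocnt_one] at h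
      have h1' := (Nat.Prime.factorization_pos_of_dvd (by norm_num : Nat.Prime 7) Nat.card_pos.ne' hd)
      by_contra hne
      have h' : 7 ^ 2 ∣ 1 + ocnt G 7 := (Nat.pow_dvd_pow 7 (by omega)).trans h
      norm_num at h'
      omega
    have hn := ocnt_of_prime_sylow (G := G) (p := 7) hf
    have hn15 : Nat.card (Sylow 7 G) = 15 := by omega
    have h15d : 15 ∣ Nat.card G := hn15 ▸ card_sylow_dvd_card 7
    have h5 : ocnt G 5 ≠ 0 := ocnt_prime_ne_zero (by norm_num) (Dvd.dvd.trans (by norm_num) h15d)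
    refine (h36 h5).2.2 hd ?_
    by_contra hc
    have hf := frob hc
    rw [show (35 : ℕ).divisors = {1, 5, 7, 35} by decide] at hf
    simp [ocnt_one] at hf
    have := hval 35 (by norm_num)
    have ht := tot 35
    rw [show Nat.totient 35 = 24 by decide] at ht
    omega
  exact ⟨h15, h7, fun h => ⟨(h36 h).1, (h36 h).2.1⟩⟩

theorem six_arith_no5 (n s3 s4 s6 s12 : ℕ)
    (hn : n ∈ (648 : ℕ).divisors) (hs : n = 1 + 45 + s3 + s4 + s6 + s12)
    (h3 : s3 = 0 ∨ s3 = 80) (h4 : s4 = 0 ∨ s4 = 90)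
    (h6 : s6 = 0 ∨ (s3 = 80 ∧ (s6 = 90 ∨ s6 = 144)))
    (h12 : s12 = 0 ∨ (s4 = 90 ∧ s6 = 144 ∧ s12 = 144))
    (h144 : s6 = 144 ∨ s12 = 144) : False := by
  have key : ∀ x ∈ (648 : ℕ).divisors, x ≠ 270 ∧ x ≠ 360 ∧ x ≠ 504 := by decide +kernel
  have := key n hn
  omega

theorem six_arith_5 (c n s3 s4 s6 s10 s12 s20 : ℕ)
    (hc : c ∈ (18 : ℕ).divisors) (hn : n = 180 * c) (h108 : ¬ 108 ∣ n)
    (hs : n = 1 + 45 + 144 + s3 + s4 + s6 + s10 + s12 + s20)
    (h3 : s3 = 80) (h4 : s4 = 0 ∨ s4 = 90)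
    (h6 : s6 = 0 ∨ s6 = 90 ∨ s6 = 144)
    (h10 : s10 = 0 ∨ s10 = 80)
    (h12 : s12 = 0 ∨ (s4 = 90 ∧ s6 = 144 ∧ s12 = 144))
    (h20 : s20 = 0 ∨ (s4 = 90 ∧ s10 = 80 ∧ s20 = 80)) :
    n = 360 ∧ s10 = 0 := by
  have key : ∀ x ∈ (18 : ℕ).divisors, ¬ 108 ∣ 180 * x → x = 1 ∨ x = 2 := by decide +kernel
  have := key c hc (hn ▸ h108)
  omega

theorem six_structure
    (hval : ∀ m, 3 ≤ m → ocnt G m = 0 ∨ ocnt G m = 80 ∨ ocnt G m = 90 ∨ ocnt G m = 144)
    (h2 : ocnt G 2 = 45)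
    (ha80 : ∃ m, ocnt G m ≠ 0 ∧ ocnt G m = 80) (ha90 : ∃ m, ocnt G m ≠ 0 ∧ ocnt G m = 90)
    (ha144 : ∃ m, ocnt G m ≠ 0 ∧ ocnt G m = 144) :
    Nat.card G = 360 ∧ ocnt G 3 = 80 ∧ ocnt G 5 = 144 ∧ (∀ g : G, orderOf g ∣ 60) ∧
      ocnt G 10 = 0 ∧ ocnt G 15 = 0 := by
  haveI : Fact (Nat.Prime 2) := ⟨by norm_num⟩
  haveI : Fact (Nat.Prime 3) := ⟨by norm_num⟩
  haveI : Fact (Nat.Prime 5) := ⟨by norm_num⟩
  haveI : Fact (Nat.Prime 7) := ⟨by norm_num⟩
  have h1 := ocnt_one (G := G)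
  have tot : ∀ m : ℕ, m.totient ∣ ocnt G m := totient_dvd_ocnt
  obtain ⟨hprimes, hp3, hp5, hp7⟩ := six_primes hval
  obtain ⟨h4, h8, hA3⟩ := six_two hval h2
  obtain ⟨h9, hB4⟩ := six_three hval hp3
  obtain ⟨h25, hC1⟩ := six_five hval hp5
  obtain ⟨h15, h7, h36⟩ := six_seven hval hp3 hp5 hp7 hC1
  -- orders and the group order
  have hord : ∀ g : G, orderOf g ∣ 60 := by
    refine orderOf_dvd_of_prime_pow fun p k hp hk => ?_
    rcases Nat.eq_zero_or_pos k with rfl | hk0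
    · simp
    have hpd : p ∣ Nat.card G := (dvd_pow_self p hk0.ne').trans (dvd_card_of_ocnt hk)
    rcases hprimes p hp hpd with rfl | ⟨rfl, -⟩ | ⟨rfl, -⟩ | ⟨rfl, -⟩
    · exact (Nat.pow_dvd_pow 2 (pow_le_of_zero (e := 2) (by simpa using h8) hk)).trans (by norm_num)
    · exact (Nat.pow_dvd_pow 3 (pow_le_of_zero (e := 1) (by simpa using h9) hk)).trans (by norm_num)
    · exact (Nat.pow_dvd_pow 5 (pow_le_of_zero (e := 1) (by simpa using h25) hk)).trans (by norm_num)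
    · exact absurd hpd h7
  have hdvd : Nat.card G ∣ 3240 := by
    refine card_dvd fun p k hp hk hd => ?_
    have hkf : k ≤ (Nat.card G).factorization p :=
      (hp.pow_dvd_iff_le_factorization Nat.card_pos.ne').1 hd
    have hpd : p ∣ Nat.card G := (dvd_pow_self p hk).trans hd
    rcases hprimes p hp hpd with rfl | ⟨rfl, -⟩ | ⟨rfl, -⟩ | ⟨rfl, -⟩
    · exact (Nat.pow_dvd_pow 2 (hkf.trans hA3)).trans (by norm_num)
    · exact (Nat.pow_dvd_pow 3 (hkf.trans hB4)).trans (by norm_num)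
    · exact (Nat.pow_dvd_pow 5 (hkf.trans hC1)).trans (by norm_num)
    · exact absurd hpd h7
  have h30 : ocnt G 30 = 0 := ocnt_zero_of_dvd (by norm_num) h15
  have h60 : ocnt G 60 = 0 := ocnt_zero_of_dvd (by norm_num) h15
  have hsum := card_eq_sum (G := G) (E := 60) (by norm_num) hord
  rw [show (60 : ℕ).divisors = {1, 2, 3, 4, 5, 6, 10, 12, 15, 20, 30, 60} by decide] at hsum
  simp [ocnt_one] at hsum
  have h6 : ocnt G 6 = 0 ∨ (ocnt G 3 = 80 ∧ (ocnt G 6 = 90 ∨ ocnt G 6 = 144)) := by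
    by_contra hc
    have h6n : ocnt G 6 ≠ 0 := by omega
    have hf := frob h6n
    rw [show (6 : ℕ).divisors = {1, 2, 3, 6} by decide] at hf
    simp [ocnt_one] at hf
    have := hval 6 (by norm_num)
    have := ocnt_ne_zero_of_dvd (G := G) (d := 3) (m := 6) (by norm_num) h6n
    omega
  have h10 : ocnt G 10 = 0 ∨ (ocnt G 5 = 144 ∧ ocnt G 10 = 80) := by
    by_contra hc
    have h10n : ocnt G 10 ≠ 0 := by omega
    have hf := frob h10n
    rw [show (10 : ℕ).divisors = {1, 2, 5, 10} by decide] at hf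
    simp [ocnt_one] at hf
    have := hval 10 (by norm_num)
    have ht := tot 10
    rw [show Nat.totient 10 = 4 by decide] at ht
    have := ocnt_ne_zero_of_dvd (G := G) (d := 5) (m := 10) (by norm_num) h10n
    omega
  have h12 : ocnt G 12 = 0 ∨ (ocnt G 4 = 90 ∧ ocnt G 6 = 144 ∧ ocnt G 12 = 144) := by
    by_contra hc
    have h12n : ocnt G 12 ≠ 0 := by omega
    have hf := frob h12n
    rw [show (12 : ℕ).divisors = {1, 2, 3, 4, 6, 12} by decide] at hf
    simp [ocnt_one] at hf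
    have := hval 12 (by norm_num)
    have ht := tot 12
    rw [show Nat.totient 12 = 4 by decide] at ht
    have := ocnt_ne_zero_of_dvd (G := G) (d := 4) (m := 12) (by norm_num) h12n
    have := ocnt_ne_zero_of_dvd (G := G) (d := 6) (m := 12) (by norm_num) h12n
    omega
  have h20 : ocnt G 20 = 0 ∨ (ocnt G 4 = 90 ∧ ocnt G 10 = 80 ∧ ocnt G 20 = 80) := by
    by_contra hc
    have h20n : ocnt G 20 ≠ 0 := by omega
    have hf := frob h20n
    rw [show (20 : ℕ).divisors = {1, 2, 4, 5, 10, 20} by decide] at hf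
    simp [ocnt_one] at hf
    have := hval 20 (by norm_num)
    have ht := tot 20
    rw [show Nat.totient 20 = 8 by decide] at ht
    have := ocnt_ne_zero_of_dvd (G := G) (d := 4) (m := 20) (by norm_num) h20n
    have := ocnt_ne_zero_of_dvd (G := G) (d := 10) (m := 20) (by norm_num) h20n
    omega
  have att : ∀ v : ℕ, 1 < v → v ≠ 45 → (∃ m, ocnt G m ≠ 0 ∧ ocnt G m = v) →
      ocnt G 3 = v ∨ ocnt G 4 = v ∨ ocnt G 5 = v ∨ ocnt G 6 = v ∨ ocnt G 10 = v ∨ ocnt G 12 = v ∨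
        ocnt G 20 = v := by
    rintro v hv1 hv45 ⟨m, hm, rfl⟩
    obtain ⟨g, rfl⟩ := ocnt_pos_iff.1 (Nat.pos_of_ne_zero hm)
    have hmem := Nat.mem_divisors.2 ⟨hord g, (by norm_num : (60 : ℕ) ≠ 0)⟩
    rw [show (60 : ℕ).divisors = {1, 2, 3, 4, 5, 6, 10, 12, 15, 20, 30, 60} by decide] at hmem
    simp only [Finset.mem_insert, Finset.mem_singleton] at hmem
    rcases hmem with h | h | h | h | h | h | h | h | h | h | h | h <;>
      rw [h] at hm hv1 hv45 ⊢ <;> omega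
  have q144 := att 144 (by norm_num) (by norm_num) ha144
  clear att
  rcases hp5 with ⟨hn5, hs5⟩ | ⟨hd5, hs5⟩
  · exfalso
    have h648 : Nat.card G ∣ 648 := by
      have hco : Nat.Coprime (Nat.card G) 5 :=
        ((Nat.Prime.coprime_iff_not_dvd (by norm_num)).2 hn5).symm
      exact hco.dvd_of_dvd_mul_right (by simpa using hdvd)
    clear hprimes hp3 hp7
    refine six_arith_no5 _ (ocnt G 3) (ocnt G 4) (ocnt G 6) (ocnt G 12)
      (Nat.mem_divisors.2 ⟨h648, by norm_num⟩) (by omega) ?_ h4 h6 h12 (by omega)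
    rcases hval 3 (by norm_num) with h | h | h | h
    · exact Or.inl h
    · exact Or.inr h
    all_goals
      have hd3 : 3 ∣ Nat.card G := dvd_card_of_ocnt (by omega)
      have := dvd_one_add (G := G) (by norm_num : Nat.Prime 3) hd3
      omega
  obtain ⟨h36d, h108⟩ := h36 (by omega)
  have h180 : 180 ∣ Nat.card G :=
    Nat.Coprime.mul_dvd_of_dvd_of_dvd (show Nat.Coprime 36 5 by norm_num) h36d hd5
  have hs3 : ocnt G 3 = 80 := by
    rcases hp3 with ⟨hn3, -⟩ | ⟨-, h⟩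
    · exact absurd (Dvd.dvd.trans (by norm_num) h180) hn3
    · exact h
  obtain ⟨c, hc⟩ := h180
  have hc18 : c ∣ 18 :=
    Nat.dvd_of_mul_dvd_mul_left (by norm_num : 0 < 180) (by rw [← hc]; simpa using hdvd)
  obtain ⟨hcard, h100⟩ := six_arith_5 c _ (ocnt G 3) (ocnt G 4) (ocnt G 6) (ocnt G 10) (ocnt G 12) (ocnt G 20)
    (Nat.mem_divisors.2 ⟨hc18, by norm_num⟩) hc h108 (by rw [hsum, hs5, h15, h30, h60, h2]; ring)
    hs3 h4 (h6.imp id And.right) (h10.imp id And.right) h12 h20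
  exact ⟨hcard, hs3, hs5, hord, h100, h15⟩

end H18.Nse

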