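import Cfsg.Agent.H18.Nse.Basic

/-!
Simplicity from element counts, and the group of order 12.
-/

set_option autoImplicit false
set_option linter.all false

namespace H18.Nse

open H26 Subgroup MulAction
open scoped Pointwise

variable {G : Type*} [Group G] [Finite G]

theorem mem_of_odd_of_index_two {N : Subgroup G} [N.Normal] (hN : N.index = 2) {x : G}
    (hx : Odd (orderOf x)) : x ∈ N := by
  obtain ⟨m, hm⟩ := hx
  have h1 : x ^ 2 ∈ N := by simpa [hN] using Subgroup.pow_index_mem N x
  have h2 : x = (x ^ 2) ^ (m + 1) := by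
    rw [← pow_mul, show 2 * (m + 1) = orderOf x + 1 by omega, pow_succ, pow_orderOf_eq_one, one_mul]
  rw [h2]
  exact pow_mem h1 _

/-- A normal subgroup of order prime to five is trivial when five acts without fixed points. -/
theorem eq_bot_of_fpf (hno : ∀ q : ℕ, q.Prime → q ≠ 5 → ocnt G (5 * q) = 0)
    (hmod : ∀ q k : ℕ, q.Prime → q ≠ 5 → k ≠ 0 → q ^ k ∣ Nat.card G → q ^ k % 5 ≠ 1)
    (h5 : 5 ∣ Nat.card G) (N : Subgroup G) [N.Normal] (hN : ¬ 5 ∣ Nat.card N) : N = ⊥ := by
  haveI : Fact (Nat.Prime 5) := ⟨by norm_num⟩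
  by_contra hne
  obtain ⟨q, hq, hqN⟩ := Nat.exists_prime_and_dvd (n := Nat.card N)
    (fun h => hne (Subgroup.card_eq_one.1 h))
  haveI := Fact.mk hq
  have hq5 : q ≠ 5 := fun h => hN (h ▸ hqN)
  let Q : Sylow q N := default
  set Q' := (Q : Subgroup N).map N.subtype with hQ'
  set R := normalizer (Q' : Set G)
  have hsup : R ⊔ N = ⊤ := Sylow.normalizer_sup_eq_top Q
  have hidx : N.index ∣ Nat.card R := by
    have h := Subgroup.relIndex_sup_right (H := R) (K := N)
    rw [hsup, Subgroup.relIndex_top_right] at h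
    rw [h]
    exact Subgroup.index_dvd_card _
  have h5R : 5 ∣ Nat.card R := by
    have h : 5 ∣ Nat.card N * N.index := (Subgroup.card_mul_index N).symm ▸ h5
    exact (((by norm_num : Nat.Prime 5).dvd_mul.1 h).resolve_left hN).trans hidx
  obtain ⟨x, hx⟩ := exists_prime_orderOf_dvd_card' (G := R) 5 h5R
  obtain ⟨k, hk⟩ := IsPGroup.iff_card.1 (Q.isPGroup'.map N.subtype)
  have hk' : k ≠ 0 := by
    intro h0
    rw [h0, pow_zero] at hk
    have h1 : Nat.card (Q : Subgroup N) = 1 := by
      rw [← hk]; exact (Subgroup.card_map_of_injective N.subtype_injective).symm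
    have h2 := Q.dvd_card_of_dvd_card hqN
    rw [h1] at h2
    exact hq.one_lt.ne' (Nat.dvd_one.1 h2)
  have hox : orderOf (x : G) = 5 := (Subgroup.orderOf_coe x).trans hx
  let Z := zpowers (x : G)
  have hZR : Z ≤ R := zpowers_le.2 x.2
  let act : MulAction Z Q' :=
    { smul := fun z y => ⟨(z : G) * y * (z : G)⁻¹, (mem_normalizer_iff.1 (hZR z.2) y).1 y.2⟩
      one_smul := fun y => Subtype.ext (show ((1 : Z) : G) * y * _ = _ by simp)
      mul_smul := fun a b y => Subtype.ext
        (show ((a * b : Z) : G) * y * ((a * b : Z) : G)⁻¹ =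
          (a : G) * ((b : G) * y * (b : G)⁻¹) * (a : G)⁻¹ by push_cast; group) }
  have hP : IsPGroup 5 Z := IsPGroup.of_card (n := 1) (by rw [Nat.card_zpowers, hox, pow_one])
  have h := hP.card_modEq_card_fixedPoints Q'
  have hfix : Nat.card (fixedPoints Z Q') = 1 := by
    rw [Nat.card_eq_one_iff_exists]
    refine ⟨⟨1, fun z => Subtype.ext (show (z : G) * (1 : Q') * (z : G)⁻¹ = _ by simp)⟩, fun y => ?_⟩
    refine Subtype.ext (Subtype.ext ?_)
    show ((y.1 : Q') : G) = 1
    by_contra hy1
    have hc : Commute (x : G) ((y.1 : Q') : G) :=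
      mul_inv_eq_iff_eq_mul.1 (congrArg Subtype.val (y.2 ⟨x, mem_zpowers (x : G)⟩))
    obtain ⟨j, hj⟩ := IsPGroup.iff_orderOf.1 (Q.isPGroup'.map N.subtype) y.1
    have hj' : orderOf ((y.1 : Q') : G) = q ^ j := (Subgroup.orderOf_coe _).trans hj
    rcases j with _ | j
    · exact hy1 (orderOf_eq_one_iff.1 (by simpa using hj'))
    have ho : orderOf (((y.1 : Q') : G) ^ (q ^ j)) = q := by
      rw [orderOf_pow' _ (pow_ne_zero _ hq.ne_zero), hj', pow_succ, Nat.gcd_mul_right_left,
        Nat.mul_div_cancel_left _ (pow_pos hq.pos _)]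
    have hoo := (hc.pow_right (q ^ j)).orderOf_mul_eq_mul_orderOf_of_coprime
      (by rw [hox, ho]; exact (Nat.coprime_primes (by norm_num) hq).2 (Ne.symm hq5))
    rw [hox, ho] at hoo
    exact (ocnt_pos_iff.2 ⟨_, hoo⟩).ne' (hno q hq hq5)
  rw [hfix, hk] at h
  exact hmod q k hq hq5 hk' (hk ▸ Subgroup.card_subgroup_dvd_card Q') h

theorem mem_of_orderOf_five (hf : (Nat.card G).factorization 5 = 1) {N : Subgroup G} [N.Normal]
    (hN : 5 ∣ Nat.card N) {x : G} (hx : orderOf x = 5) : x ∈ N := by
  haveI : Fact (Nat.Prime 5) := ⟨by norm_num⟩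
  obtain ⟨y, hy⟩ := exists_prime_orderOf_dvd_card' (G := N) 5 hN
  have hy' : orderOf (y : G) = 5 := (Subgroup.orderOf_coe y).trans hy
  let P : Sylow 5 G := Sylow.ofCard (zpowers (y : G)) (by rw [Nat.card_zpowers, hy', hf, pow_one])
  let P' : Sylow 5 G := Sylow.ofCard (zpowers x) (by rw [Nat.card_zpowers, hx, hf, pow_one])
  obtain ⟨g, hg⟩ := exists_smul_eq G P P'
  have hxP : x ∈ (P' : Subgroup G) := mem_zpowers x
  rw [← hg, Sylow.coe_subgroup_smul, Subgroup.mem_pointwise_smul_iff_inv_smul_mem] at hxP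
  have h1 : (MulAut.conj g)⁻¹ • x ∈ N := zpowers_le.2 y.2 hxP
  rw [← map_inv, MulAut.smul_def, MulAut.conj_apply] at h1
  have h2 := Subgroup.Normal.conj_mem ‹N.Normal› _ h1 g
  simpa [mul_assoc] using h2

/-- Simplicity. -/
theorem isSimple (h1 : 1 < Nat.card G) (hf : (Nat.card G).factorization 5 = 1)
    (hno : ∀ q : ℕ, q.Prime → q ≠ 5 → ocnt G (5 * q) = 0)
    (hmod : ∀ q k : ℕ, q.Prime → q ≠ 5 → k ≠ 0 → q ^ k ∣ Nat.card G → q ^ k % 5 ≠ 1)
    (hbig : ∀ d, d ∣ Nat.card G → d ≠ Nat.card G → 5 ∣ d → 1 + ocnt G 5 ≤ d → Nat.card G = 2 * d)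
    (hodd : Nat.card G < 2 * (1 + ocnt G 3 + ocnt G 5)) : IsSimpleGroup G := by
  classical
  haveI : Nontrivial G := Finite.one_lt_card_iff_nontrivial.1 h1
  refine ⟨fun N hN => ?_⟩
  by_cases h5 : 5 ∣ Nat.card N
  · right
    by_contra hne
    have hmem5 : ∀ x : G, orderOf x = 5 → x ∈ N := fun x hx => mem_of_orderOf_five hf h5 hx
    have hle : 1 + ocnt G 5 ≤ Nat.card N := by
      have : Nat.card (Option {x : G // orderOf x = 5}) ≤ Nat.card N := by
        refine Nat.card_le_card_of_injective
          (fun o => o.elim (1 : N) (fun x => ⟨x.1, hmem5 x.1 x.2⟩)) ?_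
        rintro (_ | ⟨x, hx⟩) (_ | ⟨y, hy⟩) he
        · rfl
        · exfalso
          have : y = 1 := (congrArg Subtype.val he).symm
          rw [this, orderOf_one] at hy; omega
        · exfalso
          have : x = 1 := congrArg Subtype.val he
          rw [this, orderOf_one] at hx; omega
        · have : x = y := congrArg Subtype.val he
          subst this; rfl
      rw [Finite.card_option] at this
      rw [ocnt]; omega
    have h2 := hbig _ (Subgroup.card_subgroup_dvd_card N) (fun h => hne (Subgroup.eq_top_of_card_eq N h)) h5 hle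
    have hi : N.index = 2 := by
      have h3 := Subgroup.card_mul_index N
      rw [h2] at h3
      exact Nat.eq_of_mul_eq_mul_left Nat.card_pos (h3.trans (mul_comm 2 _))
    have hmem : ∀ x : {x : G // orderOf x = 1 ∨ orderOf x = 3 ∨ orderOf x = 5}, (x : G) ∈ N :=
      fun x => mem_of_odd_of_index_two hi (by
        rcases x.2 with h | h | h <;> (rw [h]; decide))
    have h4 : Nat.card {x : G // orderOf x = 1 ∨ orderOf x = 3 ∨ orderOf x = 5} ≤ Nat.card N :=
      Nat.card_le_card_of_injective (fun x => (⟨x.1, hmem x⟩ : N))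
        (fun a b h => Subtype.ext (Subtype.mk.inj h))
    have h6 : Nat.card {x : G // orderOf x = 1 ∨ orderOf x = 3 ∨ orderOf x = 5} =
        ocnt G 1 + ocnt G 3 + ocnt G 5 := by
      haveI := Fintype.ofFinite G
      simp only [ocnt, Nat.card_eq_fintype_card, Fintype.card_subtype]
      rw [Finset.filter_or, Finset.filter_or, Finset.card_union_of_disjoint, Finset.card_union_of_disjoint]
      · ring
      all_goals
        rw [Finset.disjoint_left]
        intro x
        simp only [Finset.mem_filter, Finset.mem_union, Finset.mem_univ, true_and]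
        omega
    rw [ocnt_one] at h6
    omega
  · left
    exact eq_bot_of_fpf hno hmod (Nat.dvd_of_factorization_pos (by omega)) N h5

/-- The group of order twelve with eight elements of order three. -/
theorem iso_alt_four (hc : Nat.card G = 12) (h3 : ocnt G 3 = 8) :
    Nonempty (G ≃* alternatingGroup (Fin 4)) := by
  classical
  haveI : Fact (Nat.Prime 3) := ⟨by norm_num⟩
  have hf : (Nat.card G).factorization 3 = 1 := by
    rw [hc, show (12 : ℕ) = 3 * 4 by norm_num, Nat.factorization_mul (by norm_num) (by norm_num)]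
    simp [Nat.Prime.factorization (show Nat.Prime 3 by norm_num),
      Nat.factorization_eq_zero_of_not_dvd (show ¬ 3 ∣ 4 by norm_num)]
  have hn : Nat.card (Sylow 3 G) = 4 := by
    have := ocnt_of_prime_sylow (G := G) (p := 3) hf
    rw [h3] at this; omega
  have hN : ∀ P : Sylow 3 G, normalizer ((P : Subgroup G) : Set G) = (P : Subgroup G) := by
    intro P
    refine (Subgroup.eq_of_le_of_card_ge Subgroup.le_normalizer ?_).symm
    have h : Nat.card (Sylow 3 G) * Nat.card (normalizer ((P : Subgroup G) : Set G)) = Nat.card G := by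
      rw [Sylow.card_eq_index_normalizer P]
      exact Subgroup.index_mul_card _
    rw [hn, hc] at h
    rw [Sylow.card_eq_multiplicity, hf]
    omega
  have hinj : Function.Injective (MulAction.toPermHom G (Sylow 3 G)) := by
    rw [injective_iff_map_eq_one]
    intro k hk
    by_contra hk1
    have hkP : ∀ P : Sylow 3 G, zpowers k = (P : Subgroup G) := by
      intro P
      have hk2 : k • P = P := by
        have := Equiv.Perm.congr_fun hk P
        simpa using this
      have hmem : k ∈ (P : Subgroup G) := by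
        rw [← hN P]; exact Sylow.smul_eq_iff_mem_normalizer.1 hk2
      refine Subgroup.eq_of_le_of_card_ge (zpowers_le.2 hmem) ?_
      rw [Sylow.card_eq_multiplicity, hf, pow_one, Nat.card_zpowers]
      have hd : orderOf k ∣ 3 := by
        have := Subgroup.orderOf_dvd_natCard (P : Subgroup G) hmem
        rwa [Sylow.card_eq_multiplicity, hf, pow_one] at this
      rcases (Nat.dvd_prime (by norm_num)).1 hd with h | h
      · exact absurd (orderOf_eq_one_iff.1 h) hk1
      · omega
    have : Subsingleton (Sylow 3 G) := ⟨fun P Q => Sylow.ext ((hkP P).symm.trans (hkP Q))⟩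
    have := (Nat.card_eq_one_iff_unique (α := Sylow 3 G)).2 ⟨this, ⟨default⟩⟩
    omega
  haveI : Fintype (Sylow 3 G) := Fintype.ofFinite _
  let e : G ≃* (MulAction.toPermHom G (Sylow 3 G)).range := MonoidHom.ofInjective hinj
  have hi : (MulAction.toPermHom G (Sylow 3 G)).range.index = 2 := by
    have h := Subgroup.card_mul_index (MulAction.toPermHom G (Sylow 3 G)).range
    rw [← Nat.card_congr e.toEquiv, hc, Nat.card_perm, hn, show Nat.factorial 4 = 24 from rfl] at h
    omega
  have heq := Equiv.Perm.eq_alternatingGroup_of_index_eq_two hi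
  exact ⟨(e.trans (MulEquiv.subgroupCongr heq)).trans
    (Equiv.altCongrHom ((Finite.equivFinOfCardEq hn)))⟩

end H18.Nse
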